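import Cfsg.Agent.Lib.GW.Deps.QGroup.Derived
import Cfsg.Agent.Lib.Fusion.RankTwoExamples
import Cfsg.Agent.S1213
import Cfsg.Agent.S1215

/-!
# Involution centralisers with quasi-dihedral or wreathed Sylow subgroup (S1240), given
Gorenstein-Walter
-/

set_option autoImplicit false

namespace CfsgLib.GW.Deps.QDCentralizer

open Subgroup Cfsg

universe u

variable {C : Type u} [Group C] [Finite C]

/-- A 2-subgroup is mapped injectively modulo the odd core. -/
theorem injective_mod_core (R : Subgroup C) (hR : IsPGroup 2 R) :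
    Function.Injective ((QuotientGroup.mk' (oddCore C)).comp R.subtype) := by
  haveI : Fact (Nat.Prime 2) := ⟨Nat.prime_two⟩
  refine (injective_iff_map_eq_one _).2 fun r hr => ?_
  have hmem : (r : C) ∈ oddCore C := (QuotientGroup.eq_one_iff _).1 hr
  have h1 : (r : C) ∈ R ⊓ oddCore C := ⟨r.2, hmem⟩
  rw [inf_eq_bot_of_coprime, mem_bot] at h1
  · exact Subtype.ext h1
  · obtain ⟨k, hk⟩ := IsPGroup.iff_card.1 hR
    rw [hk]
    exact Nat.Coprime.pow_left k (Nat.coprime_two_left.2 (odd_card_core C))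

theorem derived_mod_core (gw : CfsgLib.GW.GWStatement.{u}) (R : Sylow 2 C)
    (hR : IsQuasiDihedral (R : Subgroup C) ∨ IsWreathed (R : Subgroup C))
    (hK : ∃ K : Subgroup C, K.Normal ∧ (∃ a : ℕ, K.index = 2 ^ a) ∧
      (∀ M : Subgroup ↥K, M.index ≠ 2) ∧
      ∀ P : Sylow 2 ↥K, ∃ m : ℕ, 1 ≤ m ∧ Nonempty ((P : Subgroup ↥K) ≃* QuaternionGroup (2 ^ m)))
    (hZ : ∀ Z₀ : Subgroup C, Z₀ ≤ ((center (R : Subgroup C)).map (R : Subgroup C).subtype) →
      IsWeaklyClosed Z₀ (R : Subgroup C)) :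
    ∃ (F : Type) (_ : Field F) (_ : Fintype F), Odd (Fintype.card F) ∧
      Nonempty (↥(commutator (C ⧸ oddCore C)) ≃* Matrix.SpecialLinearGroup (Fin 2) F) := by
  haveI : Fact (Nat.Prime 2) := ⟨Nat.prime_two⟩
  let π := QuotientGroup.mk' (oddCore C)
  have hπ : Function.Surjective π := QuotientGroup.mk'_surjective _
  let R' := R.mapSurjective hπ
  have hinj := injective_mod_core (R : Subgroup C) R.isPGroup'
  let eR : (R : Subgroup C) ≃* (R' : Subgroup (C ⧸ oddCore C)) :=
    (MonoidHom.ofInjective hinj).trans (MulEquiv.subgroupCongr (by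
      rw [Sylow.coe_mapSurjective, MonoidHom.range_comp, Subgroup.range_subtype]))
  have h : QGroup.Setting R' := by
    refine ⟨hR.imp (CfsgLib.Fusion.isQuasiDihedral_congr eR) (CfsgLib.Fusion.isWreathed_congr eR),
      CfsgLib.Core.pPrimeCore_quotient_pPrimeCore 2 C, fun c hc hcom => ?_⟩
    obtain ⟨r, rfl⟩ : ∃ r : (R : Subgroup C), π r = c := by
      rw [Sylow.coe_mapSurjective] at hc
      obtain ⟨r, hr, rfl⟩ := hc
      exact ⟨⟨r, hr⟩, rfl⟩
    have hrc : r ∈ center (R : Subgroup C) := by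
      refine mem_center_iff.2 fun s => hinj ?_
      show π (s * r : (R : Subgroup C)) = π (r * s : (R : Subgroup C))
      rw [Subgroup.coe_mul, Subgroup.coe_mul, map_mul, map_mul]
      exact (hcom (π s) (by rw [Sylow.coe_mapSurjective]; exact mem_map_of_mem π s.2)).symm
    refine mem_center_iff.2 fun x => ?_
    obtain ⟨x, rfl⟩ := hπ x
    obtain ⟨o, ho, k, hk, rfl⟩ := Cfsg.Agent.S1215.result R hR ⟨hK, hZ⟩ x
    rw [map_mul, show π o = 1 from (QuotientGroup.eq_one_iff o).2 ho, one_mul, ← map_mul, ← map_mul]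
    exact congrArg π (mem_centralizer_iff.1 hk r ⟨r, hrc, rfl⟩).symm
  obtain ⟨K, hKn, ⟨a, hKi⟩, hK2, hKq⟩ := hK
  have : (K.map π).Normal := hKn.map π hπ
  obtain ⟨b, -, hb⟩ := (Nat.dvd_prime_pow Nat.prime_two).1 (hKi ▸ Subgroup.index_map_dvd K hπ)
  refine QGroup.commutator_eq gw h (K.map π) hb (fun M hM => ?_) fun P => ?_
  · refine hK2 (M.comap (π.subgroupMap K)) ?_
    rw [index_comap_of_surjective _ (π.subgroupMap_surjective K), hM]
  · obtain ⟨P₀, rfl⟩ := Sylow.mapSurjective_surjective (π.subgroupMap_surjective K) 2 P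
    obtain ⟨m, hm, ⟨e⟩⟩ := hKq P₀
    refine ⟨m, hm, ⟨?_⟩⟩
    have hj : Function.Injective ((π.subgroupMap K).comp (P₀ : Subgroup K).subtype) := by
      intro x y hxy
      have h1 := injective_mod_core ((P₀ : Subgroup K).map K.subtype) (P₀.isPGroup'.map _)
        (a₁ := ⟨((x : K) : C), mem_map_of_mem _ x.2⟩) (a₂ := ⟨((y : K) : C), mem_map_of_mem _ y.2⟩)
        (congrArg Subtype.val hxy)
      exact Subtype.ext (Subtype.ext (Subtype.mk.inj h1))
    exact (MulEquiv.subgroupCongr (by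
      rw [Sylow.coe_mapSurjective, MonoidHom.range_comp, Subgroup.range_subtype])).trans
      ((MonoidHom.ofInjective hj).symm.trans e)

/-- **S1240** given Gorenstein-Walter. -/
theorem centralizer_mod_core (gw : CfsgLib.GW.GWStatement.{u}) {G : Type u} [Group G] [Finite G]
    (S : Sylow 2 G) (hS : IsQuasiDihedral (S : Subgroup G) ∨ IsWreathed (S : Subgroup G))
    (hG : ∀ H : Subgroup G, H.index ≠ 2) (t : G) (ht : orderOf t = 2) :
    ∃ (F : Type) (_ : Field F) (_ : Fintype F), Odd (Fintype.card F) ∧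
      Nonempty (↥(commutator (↥(centralizer ({t} : Set G)) ⧸ oddCore ↥(centralizer ({t} : Set G)))) ≃*
        Matrix.SpecialLinearGroup (Fin 2) F) := by
  haveI : Fact (Nat.Prime 2) := ⟨Nat.prime_two⟩
  obtain ⟨R, hcard, hK, hZ⟩ := Cfsg.Agent.S1213.result S hS hG t ht
  obtain ⟨T, hT⟩ := (R.isPGroup'.map (centralizer ({t} : Set G)).subtype).exists_le_sylow
  have hc : Nat.card ((R : Subgroup _).map (centralizer ({t} : Set G)).subtype) = Nat.card R :=
    card_map_of_injective (centralizer ({t} : Set G)).subtype_injective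
  have hT' : (R : Subgroup _).map (centralizer ({t} : Set G)).subtype = T :=
    eq_of_le_of_card_ge hT (by rw [hc, hcard, T.card_eq_multiplicity, S.card_eq_multiplicity])
  let e : (S : Subgroup G) ≃* (R : Subgroup ↥(centralizer ({t} : Set G))) :=
    (Sylow.equiv S T).trans ((MulEquiv.subgroupCongr hT'.symm).trans
      ((R : Subgroup _).equivMapOfInjective _ (centralizer ({t} : Set G)).subtype_injective).symm)
  exact derived_mod_core gw R
    (hS.imp (CfsgLib.Fusion.isQuasiDihedral_congr e) (CfsgLib.Fusion.isWreathed_congr e)) hK hZ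

end CfsgLib.GW.Deps.QDCentralizer
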