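import Cfsg.Agent.Lib.Schur.Multiplier
import Cfsg.Agent.Lib.Known.SLn.Multiplier
import Cfsg.Agent.Lib.Known.AltSixSeven
import Cfsg.Agent.Lib.Classical.LinearOrder
import Cfsg.Agent.Lib.Classical.SmallIsoSix
import Cfsg.Agent.S2086
import Cfsg.Agent.Lib.Known.MultiplierCongr
import Cfsg.Agent.Lib.ClassSizes.Kulakoff

/-!
# Uniqueness of the perfect double cover of `PSL(2, q)`, `q` odd
-/

set_option autoImplicit false

namespace CfsgLib.GW.Deps

open Subgroup

universe u v w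

/-- Two perfect central extensions, with kernels of the same order, of a group with cyclic
multiplier are isomorphic. -/
theorem cover_unique {Q : Type u} [Group Q] [Finite Q] {A : Type u} [CommGroup A] [IsCyclic A]
    (hQ : Cfsg.HasSchurMultiplier Q A)
    {Γ₁ : Type v} [Group Γ₁] [Finite Γ₁] {Γ₂ : Type w} [Group Γ₂] [Finite Γ₂]
    (σ₁ : Γ₁ →* Q) (σ₂ : Γ₂ →* Q) (hs₁ : Function.Surjective σ₁) (hs₂ : Function.Surjective σ₂)
    (hc₁ : σ₁.ker ≤ center Γ₁) (hc₂ : σ₂.ker ≤ center Γ₂)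
    (hp₁ : commutator Γ₁ = ⊤) (hp₂ : commutator Γ₂ = ⊤) (hcard : Nat.card σ₁.ker = Nat.card σ₂.ker) :
    Nonempty (Γ₁ ≃* Γ₂) := by
  obtain ⟨eA⟩ := CfsgLib.Schur.nonempty_equiv_of_hasSchurMultiplier hQ
  have : Finite A := CfsgLib.Schur.finite_of_hasSchurMultiplier hQ
  have : Finite (CfsgLib.Schur.mult Q) := Finite.of_equiv _ eA.toEquiv
  have : IsCyclic (CfsgLib.Schur.mult Q) := isCyclic_of_surjective _ eA.surjective
  obtain ⟨φ₁, hφ₁⟩ := CfsgLib.Schur.exists_lift σ₁ hs₁ hc₁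
  obtain ⟨φ₂, hφ₂⟩ := CfsgLib.Schur.exists_lift σ₂ hs₂ hc₂
  let U := commutator (CfsgLib.Schur.Ext Q)
  let ψ₁ : U →* Γ₁ := φ₁.comp U.subtype
  let ψ₂ : U →* Γ₂ := φ₂.comp U.subtype
  have hψ₁ : Function.Surjective ψ₁ := fun y => by
    have h : y ∈ U.map φ₁ := by
      rw [← CfsgLib.Schur.commutator_eq_map_of_range_sup φ₁ σ₁.ker hc₁
        (CfsgLib.Schur.range_sup_ker_eq_top hφ₁), hp₁]
      exact mem_top y
    obtain ⟨x, hx, rfl⟩ := h
    exact ⟨⟨x, hx⟩, rfl⟩
  have hψ₂ : Function.Surjective ψ₂ := fun y => by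
    have h : y ∈ U.map φ₂ := by
      rw [← CfsgLib.Schur.commutator_eq_map_of_range_sup φ₂ σ₂.ker hc₂
        (CfsgLib.Schur.range_sup_ker_eq_top hφ₂), hp₂]
      exact mem_top y
    obtain ⟨x, hx, rfl⟩ := h
    exact ⟨⟨x, hx⟩, rfl⟩
  let m₁ := CfsgLib.Schur.multMap hφ₁
  let m₂ := CfsgLib.Schur.multMap hφ₂
  have hm₁ : Function.Surjective m₁ :=
    CfsgLib.Schur.multMap_surjective hφ₁ hc₁ (hp₁ ▸ le_top)
  have hm₂ : Function.Surjective m₂ :=
    CfsgLib.Schur.multMap_surjective hφ₂ hc₂ (hp₂ ▸ le_top)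
  have hK : m₁.ker = m₂.ker := by
    refine CfsgLib.ClassSizes.Kulakoff.eq_of_card_eq_of_isCyclic ?_
    have i₁ : m₁.ker.index = Nat.card σ₁.ker := by
      rw [Subgroup.index_ker, MonoidHom.range_eq_top.2 hm₁, Subgroup.card_top]
    have i₂ : m₂.ker.index = Nat.card σ₂.ker := by
      rw [Subgroup.index_ker, MonoidHom.range_eq_top.2 hm₂, Subgroup.card_top]
    have h₁ := m₁.ker.card_mul_index
    have h₂ := m₂.ker.card_mul_index
    rw [i₁, hcard] at h₁
    rw [i₂] at h₂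
    exact Nat.eq_of_mul_eq_mul_right Nat.card_pos (h₁.trans h₂.symm)
  have hker : ψ₁.ker = ψ₂.ker := by
    ext ⟨x, hx⟩
    constructor
    · intro h
      have hp : CfsgLib.Schur.proj Q x = 1 := by
        rw [← hφ₁, MonoidHom.comp_apply, show φ₁ x = 1 from h, map_one]
      have h' : (⟨x, hp, hx⟩ : CfsgLib.Schur.mult Q) ∈ m₁.ker := Subtype.ext h
      rw [hK] at h'
      exact congrArg Subtype.val h'
    · intro h
      have hp : CfsgLib.Schur.proj Q x = 1 := by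
        rw [← hφ₂, MonoidHom.comp_apply, show φ₂ x = 1 from h, map_one]
      have h' : (⟨x, hp, hx⟩ : CfsgLib.Schur.mult Q) ∈ m₂.ker := Subtype.ext h
      rw [← hK] at h'
      exact congrArg Subtype.val h'
  exact ⟨((QuotientGroup.quotientKerEquivOfSurjective ψ₁ hψ₁).symm.trans
    (QuotientGroup.quotientMulEquivOfEq hker)).trans (QuotientGroup.quotientKerEquivOfSurjective ψ₂ hψ₂)⟩

/-- A perfect double cover of `PSL(2, q)`, `q > 3` odd, is `SL(2, q)`. -/
theorem equiv_SL_two {Y : Type v} [Group Y] [Finite Y] (hY : commutator Y = ⊤) {F : Type} [Field F] [Fintype F]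
    (hodd : Odd (Fintype.card F)) (h3 : 3 < Fintype.card F) (σ : Y →* Matrix.ProjectiveSpecialLinearGroup (Fin 2) F)
    (hs : Function.Surjective σ) (hc : σ.ker ≤ center Y) (h2 : Nat.card σ.ker = 2) :
    Nonempty (Y ≃* Matrix.SpecialLinearGroup (Fin 2) F) := by
  classical
  obtain ⟨a, ha, ha2⟩ := CfsgLib.Known.SLn.exists_pow_ne_one (F := F) 2 fun hd => by
    rw [Nat.card_eq_fintype_card] at hd
    have := Nat.le_of_dvd (by norm_num) hd
    omega
  have hperf : commutator (Matrix.SpecialLinearGroup (Fin 2) F) = ⊤ := Matrix.SL2.commutator_eq_top ha ha2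
  have hk : Nat.card (QuotientGroup.mk' (center (Matrix.SpecialLinearGroup (Fin 2) F))).ker = 2 := by
    rw [QuotientGroup.ker_mk']
    rw [CfsgLib.Classical.card_center_SL, Fintype.card_fin]
    obtain ⟨k, hk⟩ := hodd
    rw [hk, Nat.add_sub_cancel]
    exact Nat.gcd_eq_left (Dvd.intro k rfl)
  obtain ⟨n, hn⟩ : ∃ n, Cfsg.HasCyclicSchurMultiplier (Matrix.ProjectiveSpecialLinearGroup (Fin 2) F) n := by
    by_cases h9 : Fintype.card F = 9
    · obtain ⟨e⟩ := CfsgLib.Classical.nonempty_psl_nine_equiv_alt h9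
      exact ⟨6, CfsgLib.Known.hasSchurMultiplier_congr e.symm CfsgLib.Known.AltSixSeven.multiplier_six⟩
    · have h4 : Fintype.card F ≠ 4 := fun h => by rw [h] at hodd; exact absurd hodd (by decide)
      exact ⟨_, Cfsg.Agent.S2086.result rfl 2 le_rfl (fun _ => h3) (by simp [h4, h9])⟩
  exact cover_unique hn σ (QuotientGroup.mk' _) hs (QuotientGroup.mk'_surjective _) hc
    (le_of_eq (QuotientGroup.ker_mk' _)) hY hperf (h2.trans hk.symm)

end CfsgLib.GW.Deps
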