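import Cfsg.Agent.Lib.GW.Statement
import Cfsg.Agent.Lib.GW.Deps.DoubleCover
import Cfsg.Agent.Lib.Core.UniqueOrderP
import Cfsg.Agent.Lib.Core.Cores
import Cfsg.Agent.Lib.Fusion.PSLTwo
import Cfsg.Agent.S0201
import Cfsg.Agent.S0219

/-!
# Perfect groups of 2-rank one, given Gorenstein-Walter
-/

set_option autoImplicit false

namespace CfsgLib.GW.Deps

open Subgroup Cfsg

universe u v

theorem odd_card_core (G : Type*) [Group G] [Finite G] : Odd (Nat.card (oddCore G)) :=
  Nat.coprime_two_right.1 (CfsgLib.Core.coprime_card_pPrimeCore 2 G)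

theorem le_core {G : Type*} [Group G] {N : Subgroup G} [N.Normal] (h : Odd (Nat.card N)) : N ≤ oddCore G :=
  CfsgLib.Core.le_pPrimeCore (Nat.coprime_two_right.2 h)

theorem card_comap_mk (G : Type*) [Group G] [Finite G] (Z : Subgroup G) [Z.Normal] (N : Subgroup (G ⧸ Z)) :
    Nat.card (N.comap (QuotientGroup.mk' Z)) = Nat.card Z * Nat.card N := by
  exact CfsgLib.Core.card_comap_mk' Z N

/-- Modulo a central subgroup of order two a group with trivial core keeps trivial core. -/
theorem core_quotient_eq_bot {Y : Type*} [Group Y] [Finite Y] (hO : oddCore Y = ⊥) (Z : Subgroup Y) [Z.Normal]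
    (hZ : Z ≤ center Y) (hc : Nat.card Z = 2) : oddCore (Y ⧸ Z) = ⊥ := by
  let π := QuotientGroup.mk' Z
  let N := oddCore (Y ⧸ Z)
  let W : Subgroup Y := N.comap π
  have hW : Nat.card W = 2 * Nat.card N := by rw [card_comap_mk, hc]
  have hodd : Odd (Nat.card N) := odd_card_core _
  have hcop : Nat.Coprime (Nat.card (Z.subgroupOf W)) (Z.subgroupOf W).index := by
    have hle : Z ≤ W := fun z hz => by
      show π z ∈ N
      rw [show π z = 1 from (QuotientGroup.eq_one_iff z).2 hz]
      exact one_mem _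
    have h1 : Nat.card (Z.subgroupOf W) = 2 := by
      rw [Nat.card_congr (subgroupOfEquivOfLe hle).toEquiv, hc]
    have h2 := (Z.subgroupOf W).card_mul_index
    rw [h1, hW] at h2
    rw [h1, show (Z.subgroupOf W).index = Nat.card N by omega]
    exact Nat.coprime_two_left.2 hodd
  obtain ⟨L, hL⟩ := Subgroup.exists_right_complement'_of_coprime hcop
  have hLcard : Nat.card L = Nat.card N := by
    have hle : Z ≤ W := fun z hz => by
      show π z ∈ N
      rw [show π z = 1 from (QuotientGroup.eq_one_iff z).2 hz]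
      exact one_mem _
    have h1 := hL.card_mul_card
    rw [Nat.card_congr (subgroupOfEquivOfLe hle).toEquiv, hc, hW] at h1
    omega
  have hiff : ∀ w : W, w ∈ L ↔ (w : Y) ^ Nat.card N = 1 := by
    intro w
    constructor
    · intro hw
      have h := pow_card_eq_one' (x := (⟨w, hw⟩ : L))
      rw [hLcard] at h
      exact congrArg (fun x : L => ((x : W) : Y)) h
    · intro hw
      obtain ⟨⟨⟨z, hz⟩, ⟨l, hl⟩⟩, rfl⟩ := hL.2 w
      have hl1 : (l : Y) ^ Nat.card N = 1 := by
        have h := pow_card_eq_one' (x := (⟨l, hl⟩ : L))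
        rw [hLcard] at h
        exact congrArg (fun x : L => ((x : W) : Y)) h
      have hz2 : (z : Y) ^ 2 = 1 := by
        have h := pow_card_eq_one' (x := (⟨(z : Y), hz⟩ : Z))
        rw [hc] at h
        exact congrArg Subtype.val h
      have hcomm : Commute (z : Y) (l : Y) := (mem_center_iff.1 (hZ hz) _).symm
      rw [Subgroup.coe_mul, hcomm.mul_pow, hl1, mul_one] at hw
      have hz1 : (z : Y) = 1 := by
        obtain ⟨k, hk⟩ := hodd
        rwa [hk, pow_succ, pow_mul, hz2, one_pow, one_mul] at hw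
      have : z = 1 := Subtype.ext hz1
      show z * l ∈ L
      rw [this, one_mul]
      exact hl
  let L' := L.map W.subtype
  have hL' : L'.Normal := ⟨by
    rintro _ ⟨w, hw, rfl⟩ y
    have hmem : y * (w : Y) * y⁻¹ ∈ W := (inferInstance : W.Normal).conj_mem _ w.2 y
    refine ⟨⟨_, hmem⟩, (hiff _).2 ?_, rfl⟩
    show (y * (w : Y) * y⁻¹) ^ Nat.card N = 1
    rw [conj_pow, (hiff w).1 hw, mul_one, mul_inv_cancel]⟩
  have hcard' : Nat.card L' = Nat.card N := by
    rw [← hLcard]
    exact (Nat.card_congr (L.equivMapOfInjective W.subtype W.subtype_injective).toEquiv).symm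
  have hbot : L' ≤ ⊥ := hO ▸ le_core (hcard' ▸ hodd)
  rw [le_bot_iff] at hbot
  rw [hbot, card_bot] at hcard'
  exact Subgroup.eq_bot_of_card_eq _ hcard'.symm

theorem not_perfect_of_index_two {G : Type*} [Group G] (hG : commutator G = ⊤) (H : Subgroup G)
    (h : H.index = 2) : False := by
  have : H.Normal := Subgroup.normal_of_index_eq_two h
  have : IsCyclic (G ⧸ H) := isCyclic_of_prime_card (p := 2) (by rw [← Subgroup.index_eq_card, h])
  let _ : CommGroup (G ⧸ H) := IsCyclic.commGroup
  have hle : commutator G ≤ H := Subgroup.Normal.quotient_commutative_iff_commutator_le.1 inferInstance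
  rw [hG, top_le_iff] at hle
  rw [hle, index_top] at h
  omega

theorem commutator_top_of_surjective {G H : Type*} [Group G] [Group H] (f : G →* H)
    (hf : Function.Surjective f) (hG : commutator G = ⊤) : commutator H = ⊤ := by
  rw [commutator_def, ← Subgroup.map_top_of_surjective f hf, ← Subgroup.map_commutator, ← commutator_def, hG]

/-- A Sylow 2-subgroup of a perfect group of 2-rank one is generalised quaternion. -/
theorem sylow_quaternion {X : Type u} [Group X] [Finite X] (hP : commutator X = ⊤) (h1 : PRankLE 2 1 X)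
    (h2 : Even (Nat.card X)) (S : Sylow 2 X) :
    ∃ n, Nonempty ((S : Subgroup X) ≃* QuaternionGroup (2 ^ (n + 1))) := by
  have : Fact (Nat.Prime 2) := ⟨Nat.prime_two⟩
  have hncyc : ¬ IsCyclic (S : Subgroup X) := fun h => by
    obtain ⟨H, hH⟩ := Cfsg.Agent.S0219.result h2 S h
    exact not_perfect_of_index_two hP H hH
  have hnk : ∀ E : Subgroup X, ¬ IsKleinFour E := by
    intro E hE
    have hab : IsMulCommutative E := ⟨⟨mul_comm_of_exponent_two hE.exponent_two⟩⟩
    have h := h1 E hab fun a ha => by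
      have h := Monoid.pow_exponent_eq_one (⟨a, ha⟩ : E)
      rw [hE.exponent_two] at h
      exact congrArg Subtype.val h
    rw [hE.card_four] at h
    norm_num at h
  obtain ⟨z, -, -, huniq⟩ := CfsgLib.ZStar.exists_unique_involution h2 hnk S
  have huniq' : ∀ H K : Subgroup (S : Subgroup X), Nat.card H = 2 → Nat.card K = 2 → H = K := by
    have key : ∀ H : Subgroup (S : Subgroup X), Nat.card H = 2 →
        H.map (S : Subgroup X).subtype = zpowers z := by
      intro H hH
      obtain ⟨⟨x, hxH⟩, hx⟩ := exists_prime_orderOf_dvd_card' (G := H) 2 (by rw [hH])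
      rw [Subgroup.orderOf_mk] at hx
      have hxz : (x : X) = z := huniq _ x.2 (by rw [Subgroup.orderOf_coe]; exact hx)
      have hz : zpowers x = H := by
        refine Subgroup.eq_of_le_of_card_ge (zpowers_le.2 hxH) ?_
        rw [hH, Nat.card_zpowers, hx]
      rw [← hz, MonoidHom.map_zpowers, ← hxz]
      rfl
    exact fun H K hH hK => Subgroup.map_injective (S : Subgroup X).subtype_injective
      ((key H hH).trans (key K hK).symm)
  rcases CfsgLib.Core.UniqueOrderP.isCyclic_or_quaternion_of_unique S.isPGroup' huniq' with h | ⟨-, n, ⟨e⟩⟩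
  · exact absurd h hncyc
  · rcases n with _ | n
    · exfalso
      rw [pow_zero] at e
      exact hncyc (e.symm.isCyclic.1 QuaternionGroup.quaternionGroup_one_isCyclic)
    · exact ⟨n, ⟨e⟩⟩

/-- Modulo the centre the Sylow 2-subgroups are dihedral. -/
theorem sylow_mod_center {Y : Type u} [Group Y] [Finite Y] (S : Sylow 2 Y) {n : ℕ}
    (e : (S : Subgroup Y) ≃* QuaternionGroup (2 ^ (n + 1))) (hc : Nat.card (center Y) = 2) :
    ∃ T : Sylow 2 (Y ⧸ center Y),
      Nonempty ((T : Subgroup (Y ⧸ center Y)) ≃* DihedralGroup (2 ^ (n + 1))) := by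
  classical
  have : Fact (Nat.Prime 2) := ⟨Nat.prime_two⟩
  set m := 2 ^ (n + 1) with hm
  let π := QuotientGroup.mk' (center Y)
  have hπ : Function.Surjective π := QuotientGroup.mk'_surjective _
  have hzS : center Y ≤ (S : Subgroup Y) :=
    ((IsPGroup.of_card (n := 1) (by rw [hc, pow_one]) : IsPGroup 2 (center Y))).le_sylow_of_normal S
  let g : (S : Subgroup Y) →* Y ⧸ center Y := π.comp (S : Subgroup Y).subtype
  let f₀ : QuaternionGroup m →* Y ⧸ center Y := g.comp e.symm.toMonoidHom
  obtain ⟨⟨z, hzc⟩, hz⟩ := exists_prime_orderOf_dvd_card' (G := center Y) 2 (by rw [hc])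
  rw [Subgroup.orderOf_mk] at hz
  have hez : e ⟨z, hzS hzc⟩ = .a (m : ZMod (2 * m)) :=
    CfsgLib.Fusion.eq_of_orderOf_two (by rw [e.orderOf_eq, Subgroup.orderOf_mk, hz])
  have hmem : ∀ y ∈ center Y, y = 1 ∨ y = z := by
    intro y hy
    by_contra! hne
    have h3 : ({1, z, y} : Set Y) ⊆ (center Y : Set Y) := by
      intro w hw
      rcases hw with rfl | rfl | rfl
      exacts [one_mem _, hzc, hy]
    have := Set.ncard_le_ncard h3 (Set.toFinite _)
    have hz1 : z ≠ 1 := fun h => by simp [h] at hz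
    rw [Set.ncard_insert_of_notMem (by simp [Ne.symm hz1, Ne.symm hne.1]),
      Set.ncard_pair (Ne.symm hne.2), ← Nat.card_coe_set_eq] at this
    have hc' : Nat.card ((center Y : Set Y) : Type u) = 2 := hc
    omega
  have hker : ∀ x, f₀ x = 1 ↔ CfsgLib.Fusion.quatToDihedral m x = 1 := by
    intro x
    rw [CfsgLib.Fusion.quatToDihedral_eq_one_iff]
    constructor
    · intro hx
      rcases hmem _ ((QuotientGroup.eq_one_iff _).1 hx) with h | h
      · left
        exact e.symm.injective (by rw [map_one]; exact Subtype.ext h)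
      · right
        rw [← hez]
        refine (e.apply_symm_apply x).symm.trans (congrArg e (Subtype.ext h))
    · rintro (rfl | rfl)
      · exact map_one _
      · rw [← hez]
        refine (QuotientGroup.eq_one_iff _).2 ?_
        show ((e.symm (e ⟨z, hzS hzc⟩) : (S : Subgroup Y)) : Y) ∈ center Y
        rw [e.symm_apply_apply]
        exact hzc
  let f : DihedralGroup m →* Y ⧸ center Y :=
    (CfsgLib.Fusion.quatToDihedral m).liftOfSurjective (CfsgLib.Fusion.quatToDihedral_surjective _)
      ⟨f₀, fun x hx => (hker x).2 hx⟩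
  have hfθ : ∀ x, f (CfsgLib.Fusion.quatToDihedral m x) = f₀ x := fun x =>
    MonoidHom.liftOfRightInverse_comp_apply _ _ _ _ x
  have hf : Function.Injective f := (injective_iff_map_eq_one f).2 fun y hy => by
    obtain ⟨x, rfl⟩ := CfsgLib.Fusion.quatToDihedral_surjective _ y
    exact (hker x).1 (by rw [← hfθ, hy])
  refine ⟨S.mapSurjective hπ, ⟨(MonoidHom.ofInjective hf).trans (MulEquiv.subgroupCongr ?_) |>.symm⟩⟩
  rw [Sylow.coe_mapSurjective]
  ext y
  constructor
  · rintro ⟨t, rfl⟩
    obtain ⟨x, rfl⟩ := CfsgLib.Fusion.quatToDihedral_surjective _ t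
    exact ⟨_, (e.symm x).2, (hfθ x).symm⟩
  · rintro ⟨s, hs, rfl⟩
    refine ⟨CfsgLib.Fusion.quatToDihedral _ (e ⟨s, hs⟩), ?_⟩
    rw [hfθ]
    exact congrArg π (congrArg Subtype.val (e.symm_apply_apply ⟨s, hs⟩))

/-- **S3099** given Gorenstein-Walter. -/
theorem perfect_rank_one (gw : CfsgLib.GW.GWStatement.{u}) {X : Type u} [Group X] [Finite X]
    (hP : Group.IsPerfect X) (h1 : PRankLE 2 1 X) (h2 : Even (Nat.card X)) :
    (∃ (F : Type) (_ : Field F) (_ : Fintype F), Odd (Fintype.card F) ∧ 3 < Fintype.card F ∧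
        Nonempty (X ⧸ oddCore X ≃* Matrix.SpecialLinearGroup (Fin 2) F)) ∨
      IsNonsplitDoubleCover (X ⧸ oddCore X) ↥(alternatingGroup (Fin 7)) := by
  classical
  have : Fact (Nat.Prime 2) := ⟨Nat.prime_two⟩
  obtain ⟨S⟩ := (inferInstance : Nonempty (Sylow 2 X))
  obtain ⟨n, ⟨e⟩⟩ := sylow_quaternion hP.commutator_eq_top h1 h2 S
  let π := QuotientGroup.mk' (oddCore X)
  have hπ : Function.Surjective π := QuotientGroup.mk'_surjective _
  let SY := S.mapSurjective hπ
  have hinj : Function.Injective (π.comp (S : Subgroup X).subtype) := by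
    refine (injective_iff_map_eq_one _).2 fun s hs => ?_
    have hmem : (s : X) ∈ (S : Subgroup X) ⊓ oddCore X := ⟨s.2, (QuotientGroup.eq_one_iff _).1 hs⟩
    rw [Subgroup.inf_eq_bot_of_coprime, mem_bot] at hmem
    · exact Subtype.ext hmem
    · obtain ⟨k, hk⟩ := IsPGroup.iff_card.1 S.isPGroup'
      rw [hk]
      exact Nat.Coprime.pow_left k (Nat.coprime_two_left.2 (odd_card_core X))
  have eY : (SY : Subgroup (X ⧸ oddCore X)) ≃* QuaternionGroup (2 ^ (n + 1)) := by
    refine ((MulEquiv.subgroupCongr ?_).trans (MonoidHom.ofInjective hinj).symm).trans e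
    rw [Sylow.coe_mapSurjective, MonoidHom.range_comp, Subgroup.range_subtype]
  have hO : oddCore (X ⧸ oddCore X) = ⊥ := CfsgLib.Core.pPrimeCore_quotient_pPrimeCore 2 X
  have hperf : commutator (X ⧸ oddCore X) = ⊤ := commutator_top_of_surjective π hπ hP.commutator_eq_top
  have hc : Nat.card (center (X ⧸ oddCore X)) = 2 :=
    Cfsg.Agent.S0201.result SY n eY fun N hN hodd =>
      le_bot_iff.1 (hO ▸ (@le_core _ _ N hN hodd : N ≤ oddCore (X ⧸ oddCore X)))
  obtain ⟨T, hT⟩ := sylow_mod_center SY eY hc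
  have : Group.IsPerfect ((X ⧸ oddCore X) ⧸ center (X ⧸ oddCore X)) :=
    ⟨commutator_top_of_surjective _ (QuotientGroup.mk'_surjective _) hperf⟩
  have hcore := core_quotient_eq_bot hO (center (X ⧸ oddCore X)) le_rfl hc
  have ez : ((X ⧸ oddCore X) ⧸ center (X ⧸ oddCore X)) ⧸
        oddCore ((X ⧸ oddCore X) ⧸ center (X ⧸ oddCore X)) ≃*
      (X ⧸ oddCore X) ⧸ center (X ⧸ oddCore X) :=
    (QuotientGroup.quotientMulEquivOfEq hcore).trans QuotientGroup.quotientBot
  have hn : 2 ≤ 2 ^ (n + 1) := Nat.le_self_pow (by omega) 2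
  rcases gw _ T _ hn hT with ⟨F, iF, iFF, hodd, h3, ⟨g⟩⟩ | ⟨⟨g⟩⟩
  · left
    refine ⟨F, iF, iFF, hodd, h3, ?_⟩
    let σ : X ⧸ oddCore X →* Matrix.ProjectiveSpecialLinearGroup (Fin 2) F :=
      (ez.symm.trans g).toMonoidHom.comp (QuotientGroup.mk' _)
    have hk : σ.ker = center (X ⧸ oddCore X) := by
      ext y
      rw [MonoidHom.mem_ker, MonoidHom.comp_apply, MulEquiv.coe_toMonoidHom, MulEquiv.map_eq_one_iff,
        QuotientGroup.mk'_apply, QuotientGroup.eq_one_iff]
    exact equiv_SL_two hperf hodd h3 σ ((ez.symm.trans g).surjective.comp (QuotientGroup.mk'_surjective _))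
      hk.le (hk ▸ hc)
  · right
    refine ⟨hc, ⟨ez.symm.trans g⟩, fun L hL => ?_⟩
    refine not_perfect_of_index_two hperf L ?_
    have h := hL.card_mul_card
    have h' := L.card_mul_index
    rw [hc] at h
    rw [← h, mul_comm 2] at h'
    exact Nat.eq_of_mul_eq_mul_left Nat.card_pos h'

end CfsgLib.GW.Deps
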