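import Cfsg.Agent.Lib.GW.Statement
import Cfsg.Agent.Lib.Components.Quasisimple
import Cfsg.Agent.Lib.Core.Cores
import Cfsg.Agent.Lib.TwoGroups.DihedralFusion
import Cfsg.Agent.Lib.Classical.SmallIsoSix
import Cfsg.Agent.Lib.Classical.SevenTwo
import Cfsg.Agent.Lib.Classical.Dickson.MaxExist
import Cfsg.Agent.S0219
import Cfsg.Prelude.Def_Local

/-!
# Dihedral Sylow 2-subgroups and overgroups of involution centralisers, given Gorenstein-Walter
-/

set_option autoImplicit false

namespace CfsgLib.GW.Deps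

open Subgroup Cfsg

universe u

/-- A simple group whose generalised Fitting subgroup is its Fitting subgroup is abelian. -/
theorem isMulCommutative_of_fstar_eq {H : Type*} [Group H] [Finite H] [IsSimpleGroup H]
    (h : generalizedFittingSubgroup H = fittingSubgroup H) : IsMulCommutative H := by
  by_contra hc
  have hq : IsQuasisimple H := CfsgLib.Components.isQuasisimple_of_isSimpleGroup hc
  have hcomp : IsComponent (⊤ : Subgroup H) :=
    ⟨(inferInstance : (⊤ : Subgroup H).Normal).isSubnormal,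
      CfsgLib.Components.IsQuasisimple.congr Subgroup.topEquiv.symm hq⟩
  have hle : (⊤ : Subgroup H) ≤ fittingSubgroup H := by
    rw [← h]
    exact le_sup_of_le_left (le_sSup hcomp)
  have : Group.IsNilpotent (⊤ : Subgroup H) := by
    have := CfsgLib.Core.isNilpotent_fittingSubgroup H
    exact CfsgLib.Core.isNilpotent_of_le hle
  exact CfsgLib.Components.IsQuasisimple.not_isNilpotent
    (CfsgLib.Components.IsQuasisimple.congr Subgroup.topEquiv.symm hq) this

/-- The centralisers of involutions of a simple `PSL(2, q)`, `q ∉ {5, 7, 9}` odd, are maximal. -/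
theorem centralizer_maximal {G : Type u} [Group G] [Finite G] [IsSimpleGroup G]
    (hconj : ∀ a b : G, orderOf a = 2 → orderOf b = 2 → IsConj a b) {F : Type} [Field F] [Fintype F]
    (hodd : Odd (Fintype.card F)) (h3 : 3 < Fintype.card F)
    (hq : Fintype.card F ≠ 5 ∧ Fintype.card F ≠ 7 ∧ Fintype.card F ≠ 9)
    (e : G ≃* Matrix.ProjectiveSpecialLinearGroup (Fin 2) F) {t : G} (ht : orderOf t = 2) :
    IsCoatom (centralizer ({t} : Set G)) := by
  classical
  obtain ⟨p, hp⟩ := CharP.exists F
  have : Fact p.Prime := ⟨CharP.char_is_prime F p⟩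
  set q := Fintype.card F with hqdef
  have hgcd : Nat.gcd 2 (q - 1) = 2 := by
    obtain ⟨k, hk⟩ := hodd
    rw [hk, Nat.add_sub_cancel]
    exact Nat.gcd_eq_left (Dvd.intro k rfl)
  obtain ⟨k, hk2, hke, H, hH, ⟨d⟩⟩ : ∃ k, 2 ≤ k ∧ Even k ∧
      ∃ H : Subgroup (Matrix.ProjectiveSpecialLinearGroup (Fin 2) F), IsCoatom H ∧ Nonempty (H ≃* DihedralGroup k) := by
    obtain ⟨j, hj⟩ := hodd
    rcases Nat.even_or_odd j with hje | hjo
    · have hn : q ≠ 11 := by
        intro h11
        rw [h11] at hj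
        obtain ⟨i, hi⟩ := hje
        omega
      refine ⟨(q - 1) / 2, by omega, by rw [show (q - 1) / 2 = j by omega]; exact hje, ?_⟩
      have h := CfsgLib.Classical.Dickson.dihedral_maximal (m := (q - 1) / Nat.gcd 2 (q - 1)) p hqdef.symm
        (Or.inr ⟨rfl, by omega, by omega, hq.1, hq.2.1, hq.2.2, hn⟩)
      rwa [hgcd] at h
    · refine ⟨(q + 1) / 2, by omega, by rw [show (q + 1) / 2 = j + 1 by omega]; exact hjo.add_one, ?_⟩
      have h := CfsgLib.Classical.Dickson.dihedral_maximal (m := (q + 1) / Nat.gcd 2 (q - 1)) p hqdef.symm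
        (Or.inl ⟨rfl, by omega, hq.2.1, hq.2.2⟩)
      rwa [hgcd] at h
  obtain ⟨j, rfl⟩ := hke
  have : NeZero (j + j) := ⟨by omega⟩
  let H' : Subgroup G := H.map e.symm.toMonoidHom
  have hH' : IsCoatom H' := (OrderIso.isCoatom_iff (e.symm.mapSubgroup) H).2 hH
  let d' : H' ≃* DihedralGroup (j + j) := (e.symm.subgroupMap H).symm.trans d
  let z : DihedralGroup (j + j) := DihedralGroup.r ((j : ℕ) : ZMod (j + j))
  have hjj : ((j : ℕ) : ZMod (j + j)) + ((j : ℕ) : ZMod (j + j)) = 0 := by
    rw [← Nat.cast_add, ZMod.natCast_self]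
  have hz : orderOf z = 2 := by
    refine orderOf_eq_prime ?_ ?_
    · rw [pow_two, DihedralGroup.r_mul_r, hjj]; rfl
    · rw [Ne, DihedralGroup.one_def, DihedralGroup.r.injEq, ZMod.natCast_eq_zero_iff]
      intro h
      have := Nat.le_of_dvd (by omega) h
      omega
  have hzc : ∀ x, x * z = z * x := by
    rintro (i | i)
    · simp only [z, DihedralGroup.r_mul_r, add_comm]
    · simp only [z, DihedralGroup.sr_mul_r, DihedralGroup.r_mul_sr]
      congr 1
      rw [eq_sub_iff_add_eq, add_assoc, hjj, add_zero]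
  set w : G := ((d'.symm z : H') : G) with hwdef
  have hw : orderOf w = 2 := by rw [hwdef, Subgroup.orderOf_coe, d'.symm.orderOf_eq, hz]
  have hle : H' ≤ centralizer ({w} : Set G) := by
    intro x hx
    rw [mem_centralizer_singleton_iff]
    have h := hzc (d' ⟨x, hx⟩)
    have h' := congrArg d'.symm h
    rw [map_mul, map_mul, d'.symm_apply_apply] at h'
    exact (congrArg Subtype.val h' :)
  have hne : centralizer ({w} : Set G) ≠ ⊤ := by
    intro h
    have hc : zpowers w ≤ center G := by
      rw [zpowers_le, mem_center_iff]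
      intro g
      exact mem_centralizer_singleton_iff.1 (h ▸ mem_top g : g ∈ centralizer ({w} : Set G))
    rcases Subgroup.Normal.eq_bot_or_eq_top (inferInstance : (center G).Normal) with hb | ht'
    · rw [hb, le_bot_iff, zpowers_eq_bot] at hc
      rw [hc, orderOf_one] at hw
      omega
    · apply hH'.1
      have hn : H'.Normal := ⟨fun x hx g => by
        rw [mem_center_iff.1 (ht' ▸ mem_top x : x ∈ center G) g, mul_inv_cancel_right]; exact hx⟩
      rcases hn.eq_bot_or_eq_top with hb | ht''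
      · exfalso
        have : w ∈ H' := (d'.symm z).2
        rw [hb, mem_bot] at this
        rw [this, orderOf_one] at hw
        omega
      · exact ht''
  have hCw : centralizer ({w} : Set G) = H' := ((hH'.le_iff.1 hle).resolve_left hne)
  obtain ⟨g, hg⟩ := isConj_iff.1 (hconj w t hw ht)
  have hmap : (centralizer ({w} : Set G)).map (MulAut.conj g).toMonoidHom = centralizer ({t} : Set G) := by
    rw [← hg]
    ext x
    simp only [mem_map_equiv, mem_centralizer_singleton_iff, MulAut.conj_symm_apply]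
    constructor <;> intro h
    · calc x * (g * w * g⁻¹) = g * (g⁻¹ * x * g * w) * g⁻¹ := by group
        _ = g * (w * (g⁻¹ * x * g)) * g⁻¹ := by rw [h]
        _ = g * w * g⁻¹ * x := by group
    · calc g⁻¹ * x * g * w = g⁻¹ * (x * (g * w * g⁻¹)) * g := by group
        _ = g⁻¹ * (g * w * g⁻¹ * x) * g := by rw [h]
        _ = w * (g⁻¹ * x * g) := by group
  rw [← hmap]
  exact (OrderIso.isCoatom_iff ((MulAut.conj g).mapSubgroup) _).2 (hCw ▸ hH')

/-- **S3287** given Gorenstein-Walter. -/
theorem chz_dihedral (gw : CfsgLib.GW.GWStatement.{u}) {G : Type u} [Group G] [Finite G] [IsSimpleGroup G]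
    (S : Sylow 2 G) (m : ℕ) (eS : ↥(S : Subgroup G) ≃* DihedralGroup m)
    (t : G) (ht : orderOf t = 2) (K : Subgroup G) (hlt : centralizer ({t} : Set G) < K)
    (hK : generalizedFittingSubgroup ↥K = fittingSubgroup ↥K) :
    Nonempty (G ≃* ↥(alternatingGroup (Fin 5))) ∨ Nonempty (G ≃* ↥(alternatingGroup (Fin 7))) ∨
      (∃ (F : Type) (_ : Field F) (_ : Fintype F), Fintype.card F = 2 ∧ Nonempty (G ≃* Matrix.ProjectiveSpecialLinearGroup (Fin 3) F)) ∨
      (∃ (F : Type) (_ : Field F) (_ : Fintype F), Fintype.card F = 9 ∧ Nonempty (G ≃* Matrix.ProjectiveSpecialLinearGroup (Fin 2) F)) := by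
  classical
  have : Fact (Nat.Prime 2) := ⟨Nat.prime_two⟩
  have hnc : ¬ IsMulCommutative G := by
    intro h
    refine hlt.not_ge (le_top.trans (le_of_eq ?_))
    symm
    rw [eq_top_iff]
    exact fun x _ => mem_centralizer_singleton_iff.2 (mul_comm' x t)
  have hKtop : K ≠ ⊤ := by
    intro h
    subst h
    have : IsSimpleGroup (⊤ : Subgroup G) := (Subgroup.topEquiv (G := G)).isSimpleGroup
    have hc := isMulCommutative_of_fstar_eq hK
    exact hnc ⟨⟨fun a b => congrArg Subtype.val (hc.is_comm.comm (⟨a, mem_top a⟩ : (⊤ : Subgroup G)) ⟨b, mem_top b⟩)⟩⟩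
  have hperf : commutator G = ⊤ := by
    rcases Subgroup.Normal.eq_bot_or_eq_top (inferInstance : (commutator G).Normal) with h | h
    · exfalso
      apply hnc
      refine ⟨⟨fun a b => ?_⟩⟩
      have := commutator_mem_commutator (mem_top a) (mem_top b)
      rw [← _root_.commutator_def, h, mem_bot] at this
      exact commutatorElement_eq_one_iff_mul_comm.1 this
    · exact h
  have hidx : ∀ H : Subgroup G, H.index ≠ 2 := by
    intro H hH
    have : H.Normal := Subgroup.normal_of_index_eq_two hH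
    rcases this.eq_bot_or_eq_top with h | h
    · rw [h, index_bot] at hH
      have : IsCyclic G := isCyclic_of_prime_card (p := 2) hH
      exact hnc inferInstance
    · rw [h, index_top] at hH
      omega
  have hm0 : m ≠ 0 := by
    rintro rfl
    have : Finite (DihedralGroup 0) := Finite.of_equiv _ eS.toEquiv
    exact not_finite (DihedralGroup 0)
  have : NeZero m := ⟨hm0⟩
  obtain ⟨k, rfl⟩ : ∃ k, m = 2 ^ k := by
    obtain ⟨i, hi⟩ := IsPGroup.iff_card.1 S.isPGroup'
    rw [Nat.card_congr eS.toEquiv, DihedralGroup.nat_card] at hi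
    obtain ⟨k, -, hk⟩ := (Nat.dvd_prime_pow Nat.prime_two).1 (Dvd.intro_left 2 hi : m ∣ 2 ^ i)
    exact ⟨k, hk⟩
  have hk1 : 1 ≤ k := by
    by_contra hk
    have hk0 : k = 0 := by omega
    have h4 : Nat.card (S : Subgroup G) = 2 := by
      rw [Nat.card_congr eS.toEquiv, DihedralGroup.nat_card, hk0, pow_zero, mul_one]
    obtain ⟨H, hH⟩ := Cfsg.Agent.S0219.result (G := G)
      (even_iff_two_dvd.2 (h4 ▸ (S : Subgroup G).card_subgroup_dvd_card)) S (isCyclic_of_prime_card (p := 2) h4)
    exact hidx H hH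
  have hconj := CfsgLib.TwoGroups.Dihedral.all_conj_of_no_index_two
    (f := (S : Subgroup G).subtype.comp eS.symm.toMonoidHom) (S := S)
    ((S : Subgroup G).subtype_injective.comp eS.symm.injective)
    (by rw [MonoidHom.range_comp, MonoidHom.range_eq_top.2 eS.symm.surjective, ← MonoidHom.range_eq_map,
      Subgroup.range_subtype]) hk1 hidx
  have hO : oddCore G = ⊥ := by
    rcases Subgroup.Normal.eq_bot_or_eq_top (inferInstance : (oddCore G).Normal) with h | h
    · exact h
    · exfalso
      have h1 := Nat.coprime_two_right.1 (CfsgLib.Core.coprime_card_pPrimeCore 2 G)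
      rw [show pPrimeCore 2 G = ⊤ from h, card_top] at h1
      exact Nat.not_even_iff_odd.2 h1 (even_iff_two_dvd.2 (ht ▸ orderOf_dvd_natCard t))
  have : Group.IsPerfect G := ⟨hperf⟩
  have hm2 : 2 ≤ 2 ^ k := Nat.le_self_pow (by omega) 2
  rcases gw G S _ hm2 ⟨eS⟩ with ⟨F, iF, iFF, hodd, h3, ⟨g⟩⟩ | ⟨⟨g⟩⟩
  · let e : G ≃* Matrix.ProjectiveSpecialLinearGroup (Fin 2) F :=
      ((QuotientGroup.quotientMulEquivOfEq hO).trans QuotientGroup.quotientBot).symm.trans g
    by_cases hq : Fintype.card F ≠ 5 ∧ Fintype.card F ≠ 7 ∧ Fintype.card F ≠ 9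
    · exfalso
      exact hKtop ((centralizer_maximal hconj hodd h3 hq e ht).2 _ hlt)
    · rcases (show Fintype.card F = 5 ∨ Fintype.card F = 7 ∨ Fintype.card F = 9 by tauto) with h5 | h7 | h9
      · exact Or.inl ⟨e.trans (CfsgLib.Classical.nonempty_psl_five_equiv_alt h5).some⟩
      · exact Or.inr (Or.inr (Or.inl ⟨ZMod 2, inferInstance, inferInstance, ZMod.card 2,
          ⟨e.trans (CfsgLib.Classical.Seven.nonempty_psl_seven_equiv h7 (ZMod.card 2)).some⟩⟩))
      · exact Or.inr (Or.inr (Or.inr ⟨F, iF, iFF, h9, ⟨e⟩⟩))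
  · exact Or.inr (Or.inl ⟨((QuotientGroup.quotientMulEquivOfEq hO).trans QuotientGroup.quotientBot).symm.trans g⟩)

end CfsgLib.GW.Deps
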