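import Mathlib.GroupTheory.PGroup
import Mathlib.GroupTheory.GroupAction.Quotient
import Mathlib.GroupTheory.SpecificGroups.Dihedral
import Mathlib.GroupTheory.Index

/-!
# An involutory automorphism fixing a dihedral subgroup of index `h + 1` pointwise
-/

set_option autoImplicit false

namespace CfsgLib.GW.Deps

open Subgroup

theorem eq_one_of_fix_dihedral {X : Type*} [Group X] [Finite X] (ψ : MulAut X) (hψ : ψ * ψ = 1)
    (D : Subgroup X) (hD : ∀ d ∈ D, ψ d = d) {h : ℕ} (hh : h.Prime) (h2 : h ≠ 2) (hidx : D.index = h + 1)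
    {c : X} (hc : c ∈ D) (hco : orderOf c = h) (hpow : ∀ d ∈ D, d ^ h = 1 → d ∈ zpowers c)
    (hcom : ∀ d ∈ D, Commute d c → d ∈ zpowers c) (hcn : ∀ d ∈ D, d * c * d⁻¹ ∈ zpowers c)
    (hnn : ¬ (zpowers c).Normal) : ψ = 1 := by
  classical
  have : Fact h.Prime := ⟨hh⟩
  set Z := zpowers c with hZdef
  have hZc : Nat.card Z = h := by rw [hZdef, Nat.card_zpowers, hco]
  have hZp : IsPGroup h Z := IsPGroup.of_card (n := 1) (by rw [hZc, pow_one])
  let o : X ⧸ D := QuotientGroup.mk 1
  have hsm : ∀ (z : Z) (x : X), z • (x : X ⧸ D) = (((z : X) * x : X) : X ⧸ D) := fun z x => rfl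
  -- a fixed coset is represented by an element normalising `Z`
  have hfixnorm : ∀ x : X, (∀ z : Z, z • (x : X ⧸ D) = x) → x⁻¹ * c * x ∈ Z := by
    intro x hx
    have h1 := hx ⟨c, mem_zpowers c⟩
    rw [hsm, QuotientGroup.eq] at h1
    have h2 : x⁻¹ * c * x ∈ D := by
      have := D.inv_mem h1
      simpa [mul_assoc] using this
    refine hpow _ h2 ?_
    have h3 := conj_pow (i := h) (a := x⁻¹) (b := c)
    rw [inv_inv] at h3
    rw [h3, ← hco, pow_orderOf_eq_one, mul_one, inv_mul_cancel]
  have hofix : ∀ z : Z, z • o = o := by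
    intro z
    rw [show o = ((1 : X) : X ⧸ D) from rfl, hsm, QuotientGroup.eq, mul_one, mul_one]
    exact D.inv_mem ((zpowers_le.2 hc) z.2)
  have honly : ∀ y : X ⧸ D, (∀ z : Z, z • y = y) → y = o := by
    have hmod := hZp.card_modEq_card_fixedPoints (X ⧸ D)
    rw [← Subgroup.index_eq_card, hidx] at hmod
    have hle : Nat.card (MulAction.fixedPoints Z (X ⧸ D)) ≤ h + 1 := by
      rw [← hidx, Subgroup.index_eq_card]
      exact Finite.card_subtype_le _
    have hpos : 0 < Nat.card (MulAction.fixedPoints Z (X ⧸ D)) :=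
      Nat.card_pos_iff.2 ⟨⟨⟨o, hofix⟩⟩, inferInstance⟩
    rcases Nat.lt_or_ge (Nat.card (MulAction.fixedPoints Z (X ⧸ D))) (h + 1) with hlt | hge
    · have h1 : Nat.card (MulAction.fixedPoints Z (X ⧸ D)) = 1 := by
        have e : (h + 1) % h = Nat.card (MulAction.fixedPoints Z (X ⧸ D)) % h := hmod
        rw [Nat.add_mod_left, Nat.mod_eq_of_lt hh.one_lt] at e
        rcases Nat.lt_or_ge (Nat.card (MulAction.fixedPoints Z (X ⧸ D))) h with hl | hl
        · rw [Nat.mod_eq_of_lt hl] at e; omega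
        · rw [show Nat.card (MulAction.fixedPoints Z (X ⧸ D)) = h by omega, Nat.mod_self] at e; omega
      intro y hy
      have := (Nat.card_eq_one_iff_unique.1 h1).1
      exact congrArg Subtype.val (Subsingleton.elim (⟨y, hy⟩ : MulAction.fixedPoints Z (X ⧸ D)) ⟨o, hofix⟩)
    · exfalso
      have hall : ∀ x : X, x⁻¹ * c * x ∈ Z := by
        intro x
        refine hfixnorm x ?_
        have huniv : MulAction.fixedPoints Z (X ⧸ D) = Set.univ :=
          Set.eq_of_subset_of_ncard_le (Set.subset_univ _) (by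
            rw [Set.ncard_univ, ← Subgroup.index_eq_card, hidx, ← Nat.card_coe_set_eq]
            exact hge)
        exact fun z => (huniv ▸ Set.mem_univ (x : X ⧸ D) : (x : X ⧸ D) ∈ MulAction.fixedPoints Z (X ⧸ D)) z
      refine hnn ⟨fun z hz g => ?_⟩
      obtain ⟨k, rfl⟩ := mem_zpowers_iff.1 hz
      rw [← conj_zpow]
      exact Z.zpow_mem (by simpa using hall g⁻¹) k
  have hψinv : ∀ x : X, ψ (ψ x) = x := fun x => by rw [← MulAut.mul_apply, hψ, MulAut.one_apply]
  -- the induced permutation of the cosets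
  let π : X ⧸ D → X ⧸ D := Quotient.map' ψ (fun a b hab => by
    rw [QuotientGroup.leftRel_apply] at hab ⊢
    rw [← map_inv, ← map_mul, hD _ hab]
    exact hab)
  have hπ : ∀ x : X, π (x : X ⧸ D) = ((ψ x : X) : X ⧸ D) := fun _ => rfl
  have hππ : ∀ y, π (π y) = y := by
    intro y
    obtain ⟨x, rfl⟩ := QuotientGroup.mk_surjective y
    rw [hπ, hπ, hψinv]
  have hπo : π o = o := by rw [show o = ((1 : X) : X ⧸ D) from rfl, hπ, map_one]
  have hπz : ∀ (z : Z) (y : X ⧸ D), π (z • y) = z • π y := by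
    intro z y
    obtain ⟨x, rfl⟩ := QuotientGroup.mk_surjective y
    rw [hsm, hπ, hπ, hsm, map_mul, hD _ ((zpowers_le.2 hc) z.2)]
  have hπid : ∀ y, π y = y := by
    intro y
    by_cases hy : y = o
    · rw [hy, hπo]
    have hst : MulAction.stabilizer Z y = ⊥ := by
      rcases (MulAction.stabilizer Z y).eq_bot_or_eq_top_of_prime_card (hp := ⟨hZc ▸ hh⟩) with e | e
      · exact e
      · exact absurd (honly y fun z => (e ▸ mem_top z : z ∈ MulAction.stabilizer Z y)) hy
    let f : Z → {t : X ⧸ D // t ≠ o} := fun z => ⟨z • y, fun e => hy (by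
      rw [← inv_smul_smul z y, e, hofix])⟩
    have hfinj : Function.Injective f := by
      intro a b hab
      have e : a • y = b • y := congrArg Subtype.val hab
      have : b⁻¹ * a ∈ MulAction.stabilizer Z y := by
        rw [MulAction.mem_stabilizer_iff, mul_smul, e, inv_smul_smul]
      rw [hst, mem_bot] at this
      exact (inv_mul_eq_one.1 this).symm
    have hcardT : Nat.card {t : X ⧸ D // t ≠ o} = h := by
      have e := Nat.card_congr (Equiv.optionSubtypeNe o)
      rw [Finite.card_option, ← Subgroup.index_eq_card, hidx] at e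
      omega
    obtain ⟨z, hz⟩ := ((Nat.bijective_iff_injective_and_card f).2 ⟨hfinj, hZc.trans hcardT.symm⟩).2
      ⟨π y, fun e => hy (by rw [← hππ y, e, hπo])⟩
    have hz' : z • y = π y := congrArg Subtype.val hz
    have h2' : (z * z) • y = y := by rw [mul_smul, hz', ← hπz, hz', hππ]
    have hzz : z * z = 1 := by
      have : z * z ∈ MulAction.stabilizer Z y := h2'
      rwa [hst, mem_bot] at this
    have hz1 : z = 1 := by
      have e1 : z ^ h = 1 := by rw [← hZc]; exact pow_card_eq_one'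
      obtain ⟨k, hk⟩ := hh.odd_of_ne_two h2
      rw [hk, pow_succ, pow_mul, pow_two, hzz, one_pow, one_mul] at e1
      exact e1
    rw [← hz', hz1, one_smul]
  have hd : ∀ g : X, g⁻¹ * ψ g ∈ D := fun g => by
    have := hπid (g : X ⧸ D)
    rw [hπ] at this
    exact QuotientGroup.eq.1 this.symm
  have hcore : ∀ g x : X, x⁻¹ * (g⁻¹ * ψ g) * x ∈ D := by
    intro g x
    have h1 := D.mul_mem (hd (g * x)) (D.inv_mem (hd x))
    rw [map_mul, _root_.mul_inv_rev, _root_.mul_inv_rev, inv_inv] at h1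
    simpa [mul_assoc] using h1
  refine MulEquiv.ext fun g => ?_
  set d := g⁻¹ * ψ g with hddef
  suffices d = 1 by
    rw [MulAut.one_apply]; exact (inv_mul_eq_one.1 this).symm
  -- the core of `D` contains no non-trivial element of `Z`
  have hcoreZ : ∀ z ∈ Z, (∀ x : X, x⁻¹ * z * x ∈ D) → z = 1 := by
    intro z hz hzD
    by_contra hz1
    have hfix : ∀ y : X ⧸ D, (⟨z, hz⟩ : Z) • y = y := by
      intro y
      obtain ⟨x, rfl⟩ := QuotientGroup.mk_surjective y
      rw [hsm, QuotientGroup.eq]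
      simpa [mul_assoc] using D.inv_mem (hzD x)
    obtain ⟨y, hy⟩ : ∃ y : X ⧸ D, y ≠ o := by
      have : Nontrivial (X ⧸ D) := Finite.one_lt_card_iff_nontrivial.1 (by
        rw [← Subgroup.index_eq_card, hidx]; have := hh.pos; omega)
      exact exists_ne o
    refine hy (honly y fun w => ?_)
    rcases (MulAction.stabilizer Z y).eq_bot_or_eq_top_of_prime_card (hp := ⟨hZc ▸ hh⟩) with e | e
    · have : (⟨z, hz⟩ : Z) ∈ MulAction.stabilizer Z y := hfix y
      rw [e, mem_bot] at this
      exact absurd (congrArg Subtype.val this) hz1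
    · exact (e ▸ mem_top w : w ∈ MulAction.stabilizer Z y)
  have hdD : d ∈ D := hd g
  have hcomm : Commute d c := by
    have hz : d * c * d⁻¹ * c⁻¹ ∈ Z := Z.mul_mem (hcn d hdD) (Z.inv_mem (mem_zpowers c))
    have := hcoreZ _ hz fun x => by
      have h1 := D.mul_mem (hcore g x) (D.inv_mem (hcore g (c⁻¹ * x)))
      simpa [mul_assoc, ← hddef] using h1
    rw [mul_inv_eq_one, mul_inv_eq_iff_eq_mul] at this
    exact this
  exact hcoreZ d (hcom d hdD hcomm) fun x => hcore g x

end CfsgLib.GW.Deps
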