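import Cfsg.Agent.Lib.GW.Statement
import Cfsg.Agent.Lib.GW.Deps.OuterInvol.Join
import Cfsg.Agent.Lib.GW.KFactsProof.Seven
import Cfsg.Agent.Lib.Core.Cores
import Cfsg.Agent.S0219
import Mathlib.NumberTheory.LegendreSymbol.QuadraticChar.Basic

/-!
# A four-group acting on a simple group with dihedral Sylow 2-subgroups, given Gorenstein-Walter
-/

set_option autoImplicit false

namespace CfsgLib.GW.Deps

open Subgroup
open CfsgLib.GW.KFactsProof CfsgLib.Known.AutPSL

universe u

/-- With cyclic Sylow 2-subgroups there is no four-group. -/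
theorem not_four_of_cyclic {K : Type*} [Group K] [Finite K] (hR : ∀ R : Sylow 2 K, IsCyclic R) {v w : K}
    (h : Four v w) : False := by
  classical
  have : Fact (Nat.Prime 2) := ⟨Nat.prime_two⟩
  have hpv : IsPGroup 2 (zpowers v) := IsPGroup.of_card (n := 1) (by rw [Nat.card_zpowers, h.hv, pow_one])
  have hpw : IsPGroup 2 (zpowers w) := IsPGroup.of_card (n := 1) (by rw [Nat.card_zpowers, h.hw, pow_one])
  have hnorm : zpowers w ≤ normalizer (zpowers v : Set K) :=
    zpowers_le.2 (centralizer_le_normalizer _ (mem_centralizer_iff.2 fun y hy => by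
      obtain ⟨k, rfl⟩ := mem_zpowers_iff.1 hy
      exact (h.comm.zpow_left k).eq))
  obtain ⟨R, hle⟩ := (hpw.to_sup_of_normal_right' hpv hnorm).exists_le_sylow
  have := hR R
  let v' : (R : Subgroup K) := ⟨v, hle (le_sup_right (a := zpowers w) (mem_zpowers v))⟩
  let w' : (R : Subgroup K) := ⟨w, hle (le_sup_left (b := zpowers v) (mem_zpowers w))⟩
  let := Fintype.ofFinite (R : Subgroup K)
  have hsq : ∀ {y : K}, orderOf y = 2 → y * y = 1 ∧ y ≠ 1 := fun {y} hy =>
    ⟨by rw [← pow_two, ← hy, pow_orderOf_eq_one], fun e => by rw [e, orderOf_one] at hy; omega⟩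
  obtain ⟨hv2, hv1⟩ := hsq h.hv
  obtain ⟨hw2, hw1⟩ := hsq h.hw
  have hle2 := IsCyclic.card_pow_eq_one_le (α := (R : Subgroup K)) (n := 2) two_pos
  have h3 : ({1, v', w'} : Finset (R : Subgroup K)).card ≤ 2 := by
    refine le_trans (Finset.card_le_card fun y hy => ?_) hle2
    simp only [Finset.mem_insert, Finset.mem_singleton] at hy
    simp only [Finset.mem_filter, Finset.mem_univ, true_and, pow_two]
    rcases hy with rfl | rfl | rfl
    · exact mul_one 1
    · exact Subtype.ext hv2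
    · exact Subtype.ext hw2
  rw [Finset.card_eq_three.2 ⟨1, v', w', fun e => hv1 (congrArg Subtype.val e).symm,
    fun e => hw1 (congrArg Subtype.val e).symm, fun e => h.ne (congrArg Subtype.val e), rfl⟩] at h3
  omega

/-- In a group with a four-group every involution lies in one. -/
theorem exists_four_through {K : Type*} [Group K] [Finite K] {v w : K} (h : Four v w) {x : K}
    (hx : orderOf x = 2) : ∃ y : K, Four x y := by
  have : Fact (Nat.Prime 2) := ⟨Nat.prime_two⟩
  obtain ⟨P, hxP⟩ := (IsPGroup.of_card (p := 2) (n := 1)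
    (by rw [Nat.card_zpowers, hx, pow_one]) : IsPGroup 2 (zpowers x)).exists_le_sylow
  have hxP' : x ∈ (P : Subgroup K) := hxP (mem_zpowers x)
  have : Nontrivial (P : Subgroup K) := ⟨⟨x, hxP'⟩, 1, fun e => by
    rw [show x = 1 from congrArg Subtype.val e, orderOf_one] at hx; omega⟩
  have hZ := P.isPGroup'.center_nontrivial
  obtain ⟨z, hz⟩ := exists_prime_orderOf_dvd_card' (G := center (P : Subgroup K)) 2 (by
    obtain ⟨k, hk⟩ := IsPGroup.iff_card.1 (P.isPGroup'.to_subgroup (center (P : Subgroup K)))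
    rw [hk]
    refine dvd_pow_self 2 fun hk0 => ?_
    rw [hk0, pow_zero] at hk
    exact absurd (Finite.one_lt_card_iff_nontrivial.2 hZ) (by omega))
  rw [← Subgroup.orderOf_coe, ← Subgroup.orderOf_coe] at hz
  by_cases hzx : ((z : (P : Subgroup K)) : K) = x
  · have hcen : ∀ y ∈ (P : Subgroup K), Commute x y := fun y hy =>
      hzx ▸ (congrArg Subtype.val (mem_center_iff.1 z.2 ⟨y, hy⟩)).symm
    have hpv : IsPGroup 2 (zpowers v) := IsPGroup.of_card (n := 1) (by rw [Nat.card_zpowers, h.hv, pow_one])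
    have hpw : IsPGroup 2 (zpowers w) := IsPGroup.of_card (n := 1) (by rw [Nat.card_zpowers, h.hw, pow_one])
    have hnorm : zpowers w ≤ normalizer (zpowers v : Set K) :=
      zpowers_le.2 (centralizer_le_normalizer _ (mem_centralizer_iff.2 fun y hy => by
        obtain ⟨k, rfl⟩ := mem_zpowers_iff.1 hy
        exact (h.comm.zpow_left k).eq))
    obtain ⟨Q, hle⟩ := (hpw.to_sup_of_normal_right' hpv hnorm).exists_le_sylow
    obtain ⟨g, hg⟩ := MulAction.exists_smul_eq K Q P
    have hmem : ∀ y ∈ (Q : Subgroup K), g * y * g⁻¹ ∈ (P : Subgroup K) := fun y hy => by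
      rw [← hg]; exact ⟨y, hy, rfl⟩
    have hord : ∀ y : K, orderOf (g * y * g⁻¹) = orderOf y := fun y => (MulAut.conj g).orderOf_eq y
    by_cases hv : g * v * g⁻¹ = x
    · refine ⟨g * w * g⁻¹, hx, (hord w).trans h.hw, fun e => h.ne ((MulAut.conj g).injective (hv.trans e)), ?_⟩
      exact hcen _ (hmem w (hle (le_sup_left (b := zpowers v) (mem_zpowers w))))
    · exact ⟨g * v * g⁻¹, hx, (hord v).trans h.hv, Ne.symm hv,
        hcen _ (hmem v (hle (le_sup_right (a := zpowers w) (mem_zpowers v))))⟩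
  · exact ⟨_, hx, hz, Ne.symm hzx,
      congrArg Subtype.val (mem_center_iff.1 z.2 ⟨x, hxP'⟩)⟩

/-- An involutory automorphism fixing no four-group is not inner. -/
theorem not_inn_of_no_four {K : Type*} [Group K] [Finite K] (hZ : center K = ⊥) {v w : K} (h : Four v w)
    {α : MulAut K} (hsq : α * α = 1) (hno : ¬ ∃ v w : K, Four v w ∧ α v = v ∧ α w = w) :
    α ∉ Cfsg.Inn K := by
  rintro ⟨k, rfl⟩
  by_cases hk : k = 1
  · exact hno ⟨v, w, h, by simp [hk], by simp [hk]⟩
  have hk2 : k * k = 1 := by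
    rw [← mem_bot, ← hZ, mem_center_iff]
    intro y
    have e := MulEquiv.congr_fun hsq y
    rw [← map_mul, MulAut.conj_apply, MulAut.one_apply, mul_inv_eq_iff_eq_mul] at e
    exact e.symm
  obtain ⟨y, hy⟩ := exists_four_through h (x := k) (orderOf_eq_prime (by rw [pow_two, hk2]) hk)
  refine hno ⟨k, y, hy, by simp, ?_⟩
  rw [MulAut.conj_apply, hy.comm.eq, mul_inv_cancel_right]

/-- **S1916**, the linear case. -/
theorem linear_case {F : Type*} [Field F] [Fintype F] (hodd : Odd (Fintype.card F)) (h3 : 3 < Fintype.card F)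
    {α β : MulAut (PSL 2 F)} (hα : α * α = 1) (hβ : β * β = 1) (hc : α * β = β * α)
    (h4α : ¬ ∃ v w : PSL 2 F, Four v w ∧ α v = v ∧ α w = w)
    (h4β : ¬ ∃ v w : PSL 2 F, Four v w ∧ β v = v ∧ β w = w) :
    α * β = 1 ∨ OuterInvol.fixed α ⊔ OuterInvol.fixed β = ⊤ := by
  have h2 : (2 : F) ≠ 0 := two_ne_zero_of_odd' hodd
  obtain ⟨v, w, hvw⟩ := exists_four (F := F) h2
  have hZ : center (PSL 2 F) = ⊥ := CfsgLib.Known.BalancePSL.center_psl_bot le_rfl
  have hout : ∀ {γ : MulAut (PSL 2 F)}, γ * γ = 1 → (¬ ∃ v w : PSL 2 F, Four v w ∧ γ v = v ∧ γ w = w) →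
      fld γ = 1 ∧ γ ∉ Cfsg.Inn (PSL 2 F) := fun {γ} hγ h4 => by
    refine ⟨?_, not_inn_of_no_four hZ hvw hγ h4⟩
    by_contra hf
    exact h4 (exists_four_of_fld h2 Nat.prime_two (by rw [pow_two, hγ]) hf)
  obtain ⟨hfα, hiα⟩ := hout hα h4α
  obtain ⟨hfβ, hiβ⟩ := hout hβ h4β
  obtain ⟨g, hg, -, hDg⟩ := OuterInvol.exists_traceless hα hfα hiα
  obtain ⟨g', hg', -, hDg'⟩ := OuterInvol.exists_traceless hβ hfβ hiβ
  have hinn : α * β ∈ Cfsg.Inn (PSL 2 F) := by
    classical
    have hc2 : ringChar F ≠ 2 := fun e => h2 (by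
      have := ringChar.Nat.cast_ringChar (R := F); rw [e] at this; exact_mod_cast this)
    set a := (g : Matrix (Fin 2) (Fin 2) F).det * (g' : Matrix (Fin 2) (Fin 2) F).det with ha
    have ha0 : a ≠ 0 := mul_ne_zero (Matrix.GeneralLinearGroup.det_ne_zero g) (Matrix.GeneralLinearGroup.det_ne_zero g')
    obtain ⟨d, hd⟩ : IsSquare a := by
      rw [← quadraticChar_one_iff_isSquare ha0, ha, map_mul, quadraticChar_neg_one_iff_not_isSquare.2 hDg,
        quadraticChar_neg_one_iff_not_isSquare.2 hDg']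
      norm_num
    have hd0 : d ≠ 0 := fun e => ha0 (by rw [hd, e, mul_zero])
    rw [hg, hg', ← innDiag_apply, ← innDiag_apply, ← map_mul, innDiag_apply, ← mkAut_false,
      mem_inn_iff le_rfl _ _ _ (fun _ => rfl)]
    refine ⟨rfl, rfl, Units.mk0 d hd0, Units.ext ?_⟩
    rw [map_mul, Units.val_mul, Matrix.GeneralLinearGroup.val_det_apply, Matrix.GeneralLinearGroup.val_det_apply,
      Units.val_pow_eq_pow_val, Units.val_mk0, pow_two, ← hd]
  obtain ⟨x, hx⟩ := hinn
  by_cases hx1 : x = 1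
  · left; rw [← hx, hx1, map_one]
  right
  have hx2 : x * x = 1 := by
    refine CfsgLib.Known.BalancePSL.center_psl_bot (F := F) le_rfl |>.le (mem_center_iff.2 fun y => ?_) |> mem_bot.1
    have e : MulAut.conj (x * x) = 1 := by
      rw [map_mul, hx, mul_assoc, ← mul_assoc β α β, ← hc, mul_assoc, hβ, mul_one, hα]
    have e' := MulEquiv.congr_fun e y
    rw [MulAut.conj_apply, MulAut.one_apply, mul_inv_eq_iff_eq_mul] at e'
    exact e'.symm
  have hfixx : ∀ {γ : MulAut (PSL 2 F)}, γ * (α * β) = α * β * γ → γ x = x := fun {γ} hγ => by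
    have e : MulAut.conj (γ x) = MulAut.conj x := by
      refine MulEquiv.ext fun y => ?_
      obtain ⟨y, rfl⟩ := γ.surjective y
      rw [MulAut.conj_apply, ← map_inv, ← map_mul, ← map_mul, ← MulAut.conj_apply, hx]
      exact MulEquiv.congr_fun hγ y
    have e2 : (γ x)⁻¹ * x ∈ center (PSL 2 F) := mem_center_iff.2 fun y => by
      have e1 : MulAut.conj ((γ x)⁻¹ * x) = 1 := by rw [map_mul, map_inv, e, inv_mul_cancel]
      have e' := MulEquiv.congr_fun e1 y
      rw [MulAut.conj_apply, MulAut.one_apply, mul_inv_eq_iff_eq_mul] at e'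
      exact e'.symm
    rw [hZ, mem_bot, inv_mul_eq_one] at e2
    exact e2
  have hαx : α x = x := hfixx (by rw [mul_assoc α β α, ← hc])
  have hβx : β x = x := hfixx (by rw [← mul_assoc, ← hc])
  obtain ⟨h, hh, hh3, hhq, ⟨ψ⟩⟩ := OuterInvol.fixed_dihedral hodd h3 hα hfα hiα h4α hx1 hx2 hαx
  obtain ⟨h', hh', hh3', -, ⟨ψ'⟩⟩ := OuterInvol.fixed_dihedral hodd h3 hβ hfβ hiβ h4β hx1 hx2 hβx
  refine OuterInvol.eq_top_of_invariant hodd h3 hα hh hh3 hhq ψ
    (lt_of_le_of_ne le_sup_left fun e => ?_) fun k hk => ?_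
  · obtain ⟨-, -, -, -, -, -, -, -, -, hcen⟩ := OuterInvol.dihedral_facts hh' hh3' ψ'
    refine hx1 (hcen x hβx hx2 fun d hd => ?_)
    have hd' : α d = d := (e.symm ▸ le_sup_right : OuterInvol.fixed β ≤ OuterInvol.fixed α) hd
    have e' : MulAut.conj x d = d := by rw [hx, MulAut.mul_apply, OuterInvol.mem_fixed.1 hd, hd']
    rw [MulAut.conj_apply, mul_inv_eq_iff_eq_mul] at e'
    exact e'
  · have hle : OuterInvol.fixed α ⊔ OuterInvol.fixed β ≤ (OuterInvol.fixed α ⊔ OuterInvol.fixed β).comap α.toMonoidHom :=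
      sup_le (fun y hy => mem_sup_left (by show α (α y) = α y; rw [OuterInvol.mem_fixed.1 hy, OuterInvol.mem_fixed.1 hy]))
        (fun y hy => mem_sup_right (by
          show β (α y) = α y
          rw [← MulAut.mul_apply, ← hc, MulAut.mul_apply, OuterInvol.mem_fixed.1 hy]))
    exact hle hk

/-- **S1916** given Gorenstein-Walter. -/
theorem four_group_simple (gw : CfsgLib.GW.GWStatement.{u}) {G : Type u} [Group G] [Finite G] (L : Subgroup G)
    (hL : IsSimpleGroup L) (hLn : ¬ IsMulCommutative L)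
    (hD : ∀ P : Sylow 2 L, ∃ n : ℕ, Nonempty (↥(P : Subgroup L) ≃* DihedralGroup n))
    (a b : G) (ha : orderOf a = 2) (hb : orderOf b = 2) (hc : a * b = b * a)
    (haL : a ∈ normalizer (L : Set G)) (hbL : b ∈ normalizer (L : Set G))
    (hCa : ∀ R : Sylow 2 ↥(L ⊓ centralizer ({a} : Set G)), IsCyclic R)
    (hCb : ∀ R : Sylow 2 ↥(L ⊓ centralizer ({b} : Set G)), IsCyclic R)
    (hgen : ¬ L ≤ closure ({a, b} : Set G) ⊔ (L ⊓ centralizer ({a} : Set G)) ⊔ (L ⊓ centralizer ({b} : Set G))) :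
    a * b ∈ centralizer (L : Set G) := by
  classical
  have : Fact (Nat.Prime 2) := ⟨Nat.prime_two⟩
  have hperf : Group.IsPerfect L := ⟨(Normal.eq_bot_or_eq_top (inferInstance : (commutator L).Normal)).resolve_left
    fun h => hLn ⟨⟨fun x y => commutatorElement_eq_one_iff_mul_comm.1 (by
      rw [← mem_bot, ← h]; exact commutator_mem_commutator (mem_top x) (mem_top y))⟩⟩⟩
  obtain ⟨S⟩ : Nonempty (Sylow 2 L) := inferInstance
  obtain ⟨n, ⟨eS⟩⟩ := hD S
  have hn : 2 ≤ n := by
    rcases Nat.lt_or_ge n 2 with hlt | hge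
    · exfalso
      interval_cases n
      · have : Finite (DihedralGroup 0) := Finite.of_equiv _ eS.toEquiv
        exact not_finite (DihedralGroup 0)
      · have h2 : Nat.card (S : Subgroup L) = 2 := by
          rw [Nat.card_congr eS.toEquiv, DihedralGroup.nat_card]
        obtain ⟨H, hH⟩ := Cfsg.Agent.S0219.result (G := L)
          (even_iff_two_dvd.2 (h2 ▸ (S : Subgroup L).card_subgroup_dvd_card)) S (isCyclic_of_prime_card (p := 2) h2)
        have : H.Normal := normal_of_index_eq_two hH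
        rcases this.eq_bot_or_eq_top with e | e
        · rw [e, index_bot] at hH
          have : IsCyclic L := isCyclic_of_prime_card (p := 2) hH
          exact hLn inferInstance
        · rw [e, index_top] at hH; omega
    · exact hge
  have hO : Cfsg.oddCore L = ⊥ := by
    refine (Normal.eq_bot_or_eq_top (inferInstance : (Cfsg.oddCore L).Normal)).resolve_right fun h => ?_
    have h1 := Nat.coprime_two_right.1 (CfsgLib.Core.coprime_card_pPrimeCore 2 L)
    rw [show Cfsg.pPrimeCore 2 L = ⊤ from h, card_top] at h1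
    refine Nat.not_even_iff_odd.2 h1 (even_iff_two_dvd.2 (Dvd.dvd.trans ?_ (S : Subgroup L).card_subgroup_dvd_card))
    rw [Nat.card_congr eS.toEquiv, DihedralGroup.nat_card]
    exact dvd_mul_right 2 n
  -- the automorphisms induced on a model of `L`
  let φ := normalizerMonoidHom L
  have hφ : ∀ (k : normalizer (L : Set G)) (l : L), ((φ k l : L) : G) = k * l * (k : G)⁻¹ := fun _ _ => rfl
  let a' : normalizer (L : Set G) := ⟨a, haL⟩
  let b' : normalizer (L : Set G) := ⟨b, hbL⟩
  have hsqa : φ a' * φ a' = 1 := by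
    rw [← map_mul, show a' * a' = 1 from Subtype.ext (by
      show a * a = 1; rw [← pow_two, ← ha, pow_orderOf_eq_one]), map_one]
  have hsqb : φ b' * φ b' = 1 := by
    rw [← map_mul, show b' * b' = 1 from Subtype.ext (by
      show b * b = 1; rw [← pow_two, ← hb, pow_orderOf_eq_one]), map_one]
  have hcab : φ a' * φ b' = φ b' * φ a' := by
    rw [← map_mul, ← map_mul, show a' * b' = b' * a' from Subtype.ext hc]
  have hfixiff : ∀ (k : normalizer (L : Set G)) (l : L), φ k l = l ↔ (l : G) ∈ centralizer ({(k : G)} : Set G) := by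
    intro k l
    rw [mem_centralizer_singleton_iff, Subtype.ext_iff, hφ, mul_inv_eq_iff_eq_mul, eq_comm]
  have hno : ∀ {k : normalizer (L : Set G)}, (∀ R : Sylow 2 ↥(L ⊓ centralizer ({(k : G)} : Set G)), IsCyclic R) →
      ¬ ∃ v w : L, Four v w ∧ φ k v = v ∧ φ k w = w := by
    rintro k hk ⟨v, w, hvw, hv, hw⟩
    exact not_four_of_cyclic hk (Four.of_map (v := ⟨v, v.2, (hfixiff k v).1 hv⟩) (w := ⟨w, w.2, (hfixiff k w).1 hw⟩)
      (L ⊓ centralizer ({(k : G)} : Set G)).subtype (subtype_injective _) (hvw.map L.subtype L.subtype_injective))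
  suffices hab : φ a' * φ b' = 1 by
    rw [mem_centralizer_iff]
    intro l hl
    have e : a * b * l * (a * b)⁻¹ = l := by
      have := congrArg Subtype.val (MulEquiv.congr_fun hab ⟨l, hl⟩)
      rwa [← map_mul, hφ] at this
    exact (mul_inv_eq_iff_eq_mul.1 e).symm
  have hmodel : ∀ {K : Type} [Group K] (e : L ≃* K) (k : normalizer (L : Set G)),
      (∀ R : Sylow 2 ↥(L ⊓ centralizer ({(k : G)} : Set G)), IsCyclic R) →
      ¬ ∃ v w : K, Four v w ∧ MulAut.congr e (φ k) v = v ∧ MulAut.congr e (φ k) w = w := by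
    rintro K _ e k hk ⟨v, w, hvw, hv, hw⟩
    refine hno hk ⟨e.symm v, e.symm w, hvw.map e.symm.toMonoidHom e.symm.injective, ?_, ?_⟩
    · exact e.injective (hv.trans (e.apply_symm_apply v).symm)
    · exact e.injective (hw.trans (e.apply_symm_apply w).symm)
  rcases gw L S n hn ⟨eS⟩ with ⟨F, iF, iFF, hodd, h3, ⟨g⟩⟩ | ⟨⟨g⟩⟩
  · let e : L ≃* PSL 2 F := ((QuotientGroup.quotientMulEquivOfEq hO).trans QuotientGroup.quotientBot).symm.trans g
    have hsq : ∀ {k}, φ k * φ k = 1 → MulAut.congr e (φ k) * MulAut.congr e (φ k) = 1 := fun h => by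
      rw [← map_mul, h, map_one]
    rcases linear_case hodd h3 (hsq hsqa) (hsq hsqb) (by rw [← map_mul, hcab, map_mul])
      (hmodel e a' hCa) (hmodel e b' hCb) with h1 | h1
    · exact (MulAut.congr e).injective (by rw [map_mul, h1, map_one])
    · exfalso
      let J := closure ({a, b} : Set G) ⊔ (L ⊓ centralizer ({a} : Set G)) ⊔ (L ⊓ centralizer ({b} : Set G))
      have hle : OuterInvol.fixed (MulAut.congr e (φ a')) ⊔ OuterInvol.fixed (MulAut.congr e (φ b')) ≤
          (J.comap L.subtype).map e.toMonoidHom := by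
        refine sup_le ?_ ?_ <;> intro k hk <;> obtain ⟨l, rfl⟩ := e.surjective k
        · refine mem_map_of_mem _ (mem_sup_left (mem_sup_right ⟨l.2, (hfixiff a' l).1 (e.injective ?_)⟩))
          simpa [OuterInvol.mem_fixed] using hk
        · refine mem_map_of_mem _ (mem_sup_right ⟨l.2, (hfixiff b' l).1 (e.injective ?_)⟩)
          simpa [OuterInvol.mem_fixed] using hk
      refine hgen fun l hl => ?_
      obtain ⟨m, hm, hml⟩ := (h1.ge.trans hle) (mem_top (e ⟨l, hl⟩))
      rw [show m = ⟨l, hl⟩ from e.injective hml] at hm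
      exact hm
  · exfalso
    let e : L ≃* alternatingGroup (Fin 7) := ((QuotientGroup.quotientMulEquivOfEq hO).trans QuotientGroup.quotientBot).symm.trans g
    obtain ⟨v, w, hvw⟩ := even_four e
    obtain ⟨s, hs⟩ := exists_sigma e (φ a')
    have hZ : center L = ⊥ := (Normal.eq_bot_or_eq_top inferInstance).resolve_right fun ht =>
      Group.IsPerfect.not_isMulCommutative L ⟨⟨fun x y => mem_center_iff.1 (ht ▸ mem_top y) x⟩⟩
    have hsq : s * s = 1 := eq_one_of_centralizes fun x hx => by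
      obtain ⟨y, rfl⟩ := exists_of_even e hx
      have h1 := hs (φ a' y)
      rw [← MulAut.mul_apply, hsqa, MulAut.one_apply, hs y] at h1
      show s * s * toPerm e y = toPerm e y * (s * s)
      conv_rhs => rw [h1]
      group
    by_cases hev : Equiv.Perm.sign s = 1
    · obtain ⟨k, rfl⟩ := exists_of_even e hev
      refine not_inn_of_no_four hZ hvw hsqa (hno (k := a') hCa) ⟨k, MulEquiv.ext fun y => toPerm_injective e ?_⟩
      rw [MulAut.conj_apply, hs, map_mul, map_mul, map_inv]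
    · obtain ⟨v, w, sv, sw, hv, hw, hne, hcm, cv, cw⟩ := Perms.exists_four_of_odd hsq hev
      obtain ⟨v', rfl⟩ := exists_of_even e sv
      obtain ⟨w', rfl⟩ := exists_of_even e sw
      refine hno (k := a') hCa ⟨v', w', Four.of_map (toPerm e) (toPerm_injective e) ⟨hv, hw, hne, hcm⟩, ?_, ?_⟩ <;>
        refine toPerm_injective e ?_ <;> rw [hs]
      · rw [cv.eq, mul_inv_cancel_right]
      · rw [cw.eq, mul_inv_cancel_right]

end CfsgLib.GW.Deps
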