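import Cfsg.Agent.Lib.GW.Deps.QuatTools
import Cfsg.Agent.Lib.GW.Deps.DihedralShape
import Cfsg.Agent.Lib.LocalEven.DihedralSolvable
import Cfsg.Agent.Lib.Known.GLFourTwoFacts

/-!
# The normal `SL(2, F)` from a quaternion normal subgroup, given Gorenstein-Walter (S1216)
-/

set_option autoImplicit false
set_option linter.style.haveILetI false

namespace CfsgLib.GW.Deps.NormalSL

open Subgroup CfsgLib.GW.Deps.QuatTools
open scoped commutatorElement

universe u

/-- Inner automorphisms form a copy of the group when the centre is trivial. -/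
theorem conj_injective {T : Type*} [Group T] (hT : center T = ⊥) :
    Function.Injective (MulAut.conj : T →* MulAut T) := by
  refine (injective_iff_map_eq_one _).2 fun x hx => ?_
  rw [← mem_bot, ← hT, mem_center_iff]
  intro y
  have h := DFunLike.congr_fun hx y
  rw [MulAut.conj_apply, MulAut.one_apply] at h
  exact (mul_inv_eq_iff_eq_mul.1 h).symm

/-- Quaternion groups of order eight: the shape. -/
theorem shape_q8 {K : Type*} [Group K] (P : Subgroup K) (eP : P ≃* QuaternionGroup 2) :
    ∃ C : Subgroup K, CfsgLib.LocalEven.DihedralSolvable.Shape P C := by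
  set i : QuaternionGroup 2 →* K := P.subtype.comp eP.symm.toMonoidHom
  have hi : Function.Injective i := P.subtype_injective.comp eP.symm.injective
  have hiP : ∀ q, i q ∈ P := fun q => (eP.symm q).2
  have hsur : ∀ a ∈ P, ∃ q, i q = a := fun a ha => ⟨eP ⟨a, ha⟩, by simp [i]⟩
  set C := (zpowers (QuaternionGroup.a 1 : QuaternionGroup 2)).map i
  have hC : ∀ q, i q ∈ C ↔ ∃ k, q = .a k := fun q => by
    constructor
    · rintro ⟨r, hr, e⟩
      obtain ⟨k, rfl⟩ := mem_zpowers_iff.1 hr
      rw [← hi e, ← zpow_mod_orderOf, ← Int.toNat_of_nonneg (Int.emod_nonneg _ (by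
        exact_mod_cast (orderOf_pos _).ne')), zpow_natCast, QuaternionGroup.a_one_pow]
      exact ⟨_, rfl⟩
    · rintro ⟨k, rfl⟩
      refine mem_map_of_mem i ?_
      rw [← ZMod.natCast_zmod_val k, ← QuaternionGroup.a_one_pow]
      exact pow_mem (mem_zpowers _) _
  refine ⟨C, ⟨?_, ?_, ?_, ?_, ?_, ?_⟩⟩
  · rintro _ ⟨q, -, rfl⟩; exact hiP q
  · exact isCyclic_of_surjective (i.subgroupMap _) (i.subgroupMap_surjective _)
  · intro a ha b hb hna hnb
    obtain ⟨q, rfl⟩ := hsur a ha
    obtain ⟨r, rfl⟩ := hsur b hb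
    rw [← map_mul, hC]
    rcases q with j | j
    · exact absurd ((hC _).2 ⟨j, rfl⟩) hna
    rcases r with k | k
    · exact absurd ((hC _).2 ⟨k, rfl⟩) hnb
    exact ⟨_, QuaternionGroup.xa_mul_xa j k⟩
  · intro c hc w hw hnw hcomm
    obtain ⟨r, rfl⟩ := hsur w hw
    obtain ⟨q, hq, rfl⟩ := hc
    obtain ⟨k, rfl⟩ := (hC q).1 (mem_map_of_mem i hq)
    rcases r with j | j
    · exact absurd ((hC _).2 ⟨j, rfl⟩) hnw
    rw [← map_mul, ← map_mul] at hcomm
    rw [← map_mul, ← map_one i]
    refine congrArg i ?_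
    have key : ∀ j k : ZMod (2 * 2), (QuaternionGroup.xa j : QuaternionGroup 2) * .a k = .a k * .xa j →
        (QuaternionGroup.a k : QuaternionGroup 2) * .a k = 1 := by decide
    exact key j k (hi hcomm)
  · refine ⟨i (.a 1), (hC _).2 ⟨1, rfl⟩, fun h => ?_⟩
    rw [← map_mul, ← map_one i] at h
    have h' := hi h
    revert h'
    decide
  · refine ⟨i (.xa 0), hiP _, fun h => ?_⟩
    obtain ⟨k, hk⟩ := (hC _).1 h
    cases hk

variable {H : Type u} [Group H] [Finite H]

/-- **S1216** given Gorenstein-Walter. -/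
theorem exists_normal_SL_two (gw : CfsgLib.GW.GWStatement.{u}) (S : Sylow 2 H)
    (hS : Cfsg.IsQuasiDihedral (S : Subgroup H) ∨ Cfsg.IsWreathed (S : Subgroup H))
    (hO : Cfsg.oddCore H = ⊥) (K : Subgroup H) [K.Normal] {a : ℕ} (hKi : K.index = 2 ^ a)
    (hK2 : ∀ M : Subgroup K, M.index ≠ 2)
    (hKq : ∀ P : Sylow 2 K, ∃ m : ℕ, 1 ≤ m ∧ Nonempty ((P : Subgroup K) ≃* QuaternionGroup (2 ^ m))) :
    ∃ L₀ : Subgroup H, L₀.Normal ∧
      (∃ (F : Type) (_ : Field F) (_ : Fintype F), Odd (Fintype.card F) ∧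
        Nonempty (L₀ ≃* Matrix.SpecialLinearGroup (Fin 2) F)) ∧
      ∀ L₁ : Subgroup H, L₁.Normal → (∃ (F : Type) (_ : Field F) (_ : Fintype F), Odd (Fintype.card F) ∧
        Nonempty (L₁ ≃* Matrix.SpecialLinearGroup (Fin 2) F)) → L₁ = L₀ := by
  classical
  haveI : Fact (Nat.Prime 2) := ⟨Nat.prime_two⟩
  obtain ⟨P⟩ : Nonempty (Sylow 2 K) := inferInstance
  obtain ⟨m, hm, ⟨eP⟩⟩ := hKq P
  obtain ⟨n, rfl⟩ : ∃ n, m = n + 1 := ⟨m - 1, by omega⟩
  have hOK : Cfsg.oddCore K = ⊥ := by
    have h := CfsgLib.Core.map_subtype_pPrimeCore_le (p := 2) K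
    rw [show Cfsg.pPrimeCore 2 H = ⊥ from hO, le_bot_iff,
      map_eq_bot_iff_of_injective _ K.subtype_injective] at h
    exact h
  have hc : Nat.card (center K) = 2 := Cfsg.Agent.S0201.result P n eP fun N hN hodd =>
    le_bot_iff.1 (hOK ▸ (@CfsgLib.GW.Deps.le_core _ _ N hN hodd : N ≤ Cfsg.oddCore K))
  obtain ⟨T, hT⟩ := sylow_mod_center P eP hc
  have hcore := core_quotient_eq_bot hOK (center K) le_rfl hc
  set π := QuotientGroup.mk' (center K) with hπdef
  have hπ : Function.Surjective π := QuotientGroup.mk'_surjective _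
  have hn2 : 2 ≤ 2 ^ (n + 1) := Nat.le_self_pow (by omega) 2
  have hQ2 : ∀ W : Subgroup (K ⧸ center K), W.index ≠ 2 := fun W hW =>
    hK2 (W.comap π) (by rw [index_comap_of_surjective _ hπ, hW])
  have hinv : ∀ t : K, orderOf t = 2 → t ∈ center K := by
    intro t ht
    obtain ⟨P', hP'⟩ := (IsPGroup.of_card (n := 1) (by rw [Nat.card_zpowers, ht, pow_one]) :
      IsPGroup 2 (zpowers t)).exists_le_sylow
    obtain ⟨m', -, ⟨eP'⟩⟩ := hKq P'
    obtain ⟨c, hcc⟩ := exists_prime_orderOf_dvd_card' (G := center K) 2 (by rw [hc])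
    rw [← Subgroup.orderOf_coe] at hcc
    have hcP : (c : K) ∈ (P' : Subgroup K) :=
      ((IsPGroup.of_card (n := 1) (by rw [hc, pow_one]) : IsPGroup 2 (center K))).le_sylow_of_normal P' c.2
    have h := congrArg Subtype.val (eP'.injective
      ((CfsgLib.Fusion.eq_of_orderOf_two (by rw [eP'.orderOf_eq, Subgroup.orderOf_mk, ht]) :
          eP' ⟨t, hP' (mem_zpowers t)⟩ = _).trans
        (CfsgLib.Fusion.eq_of_orderOf_two (by rw [eP'.orderOf_eq, Subgroup.orderOf_mk, hcc]) :
          eP' ⟨(c : K), hcP⟩ = _).symm))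
    exact (show t = (c : K) from h) ▸ c.2
  have heven : 2 ∣ Nat.card (K ⧸ center K) := by
    obtain ⟨eT⟩ := hT
    refine dvd_trans ?_ (Subgroup.card_subgroup_dvd_card (T : Subgroup (K ⧸ center K)))
    rw [Nat.card_congr eT.toEquiv, DihedralGroup.nat_card]
    exact dvd_mul_right 2 _
  rcases Shapes.almost_simple gw hcore T hn2 hT with h2 | ⟨F, _, _, hodd, R, hR, ⟨eR⟩⟩ | h7
  · exfalso
    haveI : Nontrivial (K ⧸ center K) :=
      Finite.one_lt_card_iff_nontrivial.1 (Nat.le_of_dvd Nat.card_pos heven)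
    obtain ⟨W, -, hW, -⟩ := CfsgLib.OddLocal.exists_normal_index_prime (p := 2) h2
    exact hQ2 W hW
  swap
  · exfalso
    obtain ⟨e7⟩ := h7
    have hn1 : n = 1 := by
      obtain ⟨eT⟩ := hT
      have h1 := (T : Subgroup (K ⧸ center K)).card_mul_index
      rw [Nat.card_congr eT.toEquiv, DihedralGroup.nat_card, Nat.card_congr e7.toEquiv,
        nat_card_alternatingGroup, Nat.card_fin,
        show (7 : ℕ).factorial / 2 = 8 * 315 by rfl] at h1
      have hodd' := T.not_dvd_index
      rcases n with _ | _ | n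
      · exfalso; norm_num at h1; omega
      · rfl
      · exfalso
        have hd : 16 ∣ 8 * 315 := h1 ▸ dvd_mul_of_dvd_left
          (Dvd.intro (2 ^ n) (by rw [pow_succ, pow_succ, pow_succ]; ring) :
            16 ∣ 2 * 2 ^ (n + 1 + 1 + 1)) _
        omega
    subst hn1
    -- `K` is perfect
    haveI : Group.IsPerfect (K ⧸ center K) := by
      haveI : Group.IsPerfect (alternatingGroup (Fin 7)) := ⟨commutator_alternatingGroup_eq_top (by simp)⟩
      exact Group.IsPerfect.ofSurjective (f := e7.symm.toMonoidHom) e7.symm.surjective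
    have hperf : commutator K = ⊤ := by
      have htop : (commutator K).map π = ⊤ := by
        rw [_root_.commutator_def, map_commutator, Subgroup.map_top_of_surjective _ hπ]
        exact Group.IsPerfect.commutator_eq_top
      have h := congrArg (Subgroup.comap π) htop
      rw [comap_map_eq, QuotientGroup.ker_mk', Subgroup.comap_top] at h
      have h2 : (commutator K).index ∣ 2 := by
        rw [← Subgroup.relIndex_top_right, ← h, Subgroup.relIndex_sup_left, ← hc]
        exact Subgroup.relIndex_dvd_card _ _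
      rcases (Nat.dvd_prime Nat.prime_two).1 h2 with e | e
      · exact Subgroup.index_eq_one.1 e
      · exact absurd e (hK2 _)
    -- an element of the Sylow subgroup
    obtain ⟨S', hS'⟩ := (P.2.map K.subtype).exists_le_sylow
    let eS : (S : Subgroup H) ≃* (S' : Subgroup H) := Sylow.equiv S S'
    set P' : Subgroup (S : Subgroup H) :=
      (((P : Subgroup K).map K.subtype).subgroupOf (S' : Subgroup H)).map eS.symm.toMonoidHom
    let eP' : P' ≃* QuaternionGroup 4 :=
      ((((((P : Subgroup K).map K.subtype).subgroupOf (S' : Subgroup H)).equivMapOfInjective _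
        eS.symm.injective).symm).trans (subgroupOfEquivOfLe hS')).trans
        (((P : Subgroup K).equivMapOfInjective _ K.subtype_injective).symm.trans eP)
    obtain ⟨s, p, hp, hnc⟩ := not_centralizes hS P' eP'
    obtain ⟨q, hq, rfl⟩ := hp
    refine hnc ?_
    set h : H := ((eS s : (S' : Subgroup H)) : H) with hhdef
    obtain ⟨j, hj⟩ := S'.2 (eS s)
    have hj' : h ^ 2 ^ j = 1 := congrArg Subtype.val hj
    let α : H →* MulAut K := MulAut.conjNormal
    let β : MulAut K →* MulAut (K ⧸ center K) :=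
      { toFun := fun f => QuotientGroup.congr _ _ f (Subgroup.characteristic_iff_map_eq.1 inferInstance f)
        map_one' := MulEquiv.ext fun x => by obtain ⟨x, rfl⟩ := hπ x; rfl
        map_mul' := fun f g => MulEquiv.ext fun x => by obtain ⟨x, rfl⟩ := hπ x; rfl }
    obtain ⟨sg, hsg⟩ := CfsgLib.GW.KFactsProof.exists_sigma e7 (β (α h))
    have hpow : ∀ (i : ℕ) (x : K ⧸ center K), CfsgLib.GW.KFactsProof.toPerm e7 (β (α (h ^ i)) x) =
        sg ^ i * CfsgLib.GW.KFactsProof.toPerm e7 x * (sg ^ i)⁻¹ := by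
      intro i
      induction i with
      | zero => intro x; simp
      | succ i ih => intro x; rw [pow_succ, map_mul, map_mul, MulAut.mul_apply, ih, hsg, pow_succ]; group
    have hsg1 : sg ^ 2 ^ j = 1 := by
      have hcen : ∀ g : alternatingGroup (Fin 7), Commute (sg ^ 2 ^ j) (g : Equiv.Perm (Fin 7)) := by
        intro g
        obtain ⟨x, rfl⟩ := e7.surjective g
        have h1 := hpow (2 ^ j) x
        rw [hj', map_one, map_one, MulAut.one_apply, eq_mul_inv_iff_mul_eq] at h1
        exact h1.symm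
      refine CfsgLib.ClassSizes.AlternatingAut.conjNormal_injective (α := Fin 7) (by simp) ?_
      rw [map_one]
      refine MulEquiv.ext fun g => Subtype.ext ?_
      rw [MulAut.conjNormal_apply, MulAut.one_apply, (hcen g).eq, mul_inv_cancel_right]
    have h4 : ∀ x : K, h ^ 4 * x * (h ^ 4)⁻¹ * (x : H)⁻¹ ∈ (center K).map K.subtype := by
      intro x
      have h1 := hpow 4 (π x)
      rw [perm_seven_pow_four hsg1] at h1
      rw [one_mul, inv_one, mul_one] at h1
      have h2 : β (α (h ^ 4)) (π x) = π x :=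
        CfsgLib.GW.KFactsProof.toPerm_injective e7 h1
      refine ⟨α (h ^ 4) x * x⁻¹, ?_, ?_⟩
      · rw [SetLike.mem_coe, ← QuotientGroup.eq_one_iff, QuotientGroup.mk_mul, QuotientGroup.mk_inv, mul_inv_eq_one]
        exact h2
      · show ((α (h ^ 4) x : K) : H) * (x : H)⁻¹ = _
        rw [MulAut.conjNormal_apply]
    let δ : K →* center K :=
      { toFun := fun x => ⟨α (h ^ 4) x * x⁻¹, by
          obtain ⟨z, hz, e⟩ := h4 x
          have : α (h ^ 4) x * x⁻¹ = z := Subtype.ext (by
            show ((α (h ^ 4) x : K) : H) * (x : H)⁻¹ = _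
            rw [MulAut.conjNormal_apply]; exact e.symm)
          rw [this]; exact hz⟩
        map_one' := Subtype.ext (by simp)
        map_mul' := fun x y => Subtype.ext (by
          show α (h ^ 4) (x * y) * (x * y)⁻¹ = α (h ^ 4) x * x⁻¹ * (α (h ^ 4) y * y⁻¹)
          obtain ⟨z, hz, e⟩ := h4 y
          have hy : α (h ^ 4) y * y⁻¹ = z := Subtype.ext (by
            show ((α (h ^ 4) y : K) : H) * (y : H)⁻¹ = _
            rw [MulAut.conjNormal_apply]; exact e.symm)
          rw [map_mul, mul_inv_rev, mul_assoc (α (h ^ 4) x), ← mul_assoc (α (h ^ 4) y), hy,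
            ← (mem_center_iff.1 hz x⁻¹), mul_assoc]) }
    letI : CommGroup (center K) := { (inferInstance : Group (center K)) with mul_comm := mul_comm' }
    have hδ : ∀ x, δ x = 1 := fun x =>
      MonoidHom.mem_ker.1 (Abelianization.commutator_subset_ker δ (hperf ▸ mem_top x))
    obtain ⟨x, -, hx⟩ := mem_subgroupOf.1 hq
    have h5 : h ^ 4 * (x : H) * (h ^ 4)⁻¹ = x := by
      have h6 : α (h ^ 4) x * x⁻¹ = 1 := congrArg Subtype.val (hδ x)
      rw [mul_inv_eq_one] at h6
      rw [← MulAut.conjNormal_apply]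
      exact congrArg Subtype.val h6
    apply eS.injective
    rw [map_mul, map_mul, map_pow, MulEquiv.coe_toMonoidHom, eS.apply_symm_apply]
    refine Subtype.ext ?_
    show h ^ 4 * (q : H) = q * h ^ 4
    rw [← hx]
    exact mul_inv_eq_iff_eq_mul.1 h5
  -- `PSL(2, q)`
  haveI : Finite (MulAut (Matrix.ProjectiveSpecialLinearGroup (Fin 2) F)) := inferInstance
  let φ : K →* MulAut (Matrix.ProjectiveSpecialLinearGroup (Fin 2) F) :=
    R.subtype.comp (eR.toMonoidHom.comp π)
  have hφker : ∀ x : K, φ x = 1 ↔ x ∈ center K := fun x => by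
    show Subtype.val (eR (π x)) = 1 ↔ _
    rw [OneMemClass.coe_eq_one, MulEquiv.map_eq_one_iff, hπdef, QuotientGroup.mk'_apply, QuotientGroup.eq_one_iff]
  have hφR : φ.range = R := by
    rw [MonoidHom.range_comp, MonoidHom.range_eq_top.2 (eR.surjective.comp hπ), ← MonoidHom.range_eq_map, range_subtype]
  -- a normal `SL(2, F)` lies in `K`
  have hle : ∀ L₁ : Subgroup H, L₁.Normal → ∀ (F' : Type) [Field F'] [Fintype F'], Odd (Fintype.card F') →
      (L₁ ≃* Matrix.SpecialLinearGroup (Fin 2) F') → L₁ ≤ K := by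
    intro L₁ _ F' _ _ hodd' eL
    set ψ : Matrix.SpecialLinearGroup (Fin 2) F' →* H := L₁.subtype.comp eL.symm.toMonoidHom
    obtain ⟨i, -, hi⟩ := (Nat.dvd_prime_pow Nat.prime_two).1
      (hKi ▸ (Subgroup.index_comap K ψ).symm ▸ Subgroup.relIndex_dvd_index_of_normal K ψ.range)
    have htop := eq_top_of_two_power_index (sl_abelianization_odd hodd') (K.comap ψ) hi
    intro x hx
    have h := (htop ▸ mem_top (eL ⟨x, hx⟩) : eL ⟨x, hx⟩ ∈ K.comap ψ)
    rw [mem_comap] at h
    simpa [ψ] using h
  rcases card_eq_three_or hodd with h3 | h3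
  · -- `SL(2, 3)`
    have hRin : R ≤ Cfsg.Inn (Matrix.ProjectiveSpecialLinearGroup (Fin 2) F) := by
      set I := (Cfsg.Inn (Matrix.ProjectiveSpecialLinearGroup (Fin 2) F)).subgroupOf R
      haveI : I.Normal := by
        haveI := CfsgLib.Known.AutPSL.inn_normal (Matrix.ProjectiveSpecialLinearGroup (Fin 2) F)
        infer_instance
      by_contra hne
      haveI : Nontrivial (R ⧸ I) := QuotientGroup.nontrivial_iff.2 fun h => hne (subgroupOf_eq_top.1 h)
      obtain ⟨W, -, hW, -⟩ := CfsgLib.OddLocal.exists_normal_index_prime (p := 2) (H := R ⧸ I) (fun x => by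
        obtain ⟨r, rfl⟩ := QuotientGroup.mk'_surjective I x
        refine ⟨1, ?_⟩
        rw [pow_one, pow_two, ← map_mul, QuotientGroup.mk'_apply, QuotientGroup.eq_one_iff]
        exact sq_mem_inn h3 (r : MulAut _))
      refine hQ2 ((W.comap (QuotientGroup.mk' I)).comap eR.toMonoidHom) ?_
      rw [index_comap_of_surjective _ eR.surjective,
        index_comap_of_surjective _ (QuotientGroup.mk'_surjective I), hW]
    have hpsl : Nat.card (Matrix.ProjectiveSpecialLinearGroup (Fin 2) F) = 12 := by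
      have h := CfsgLib.Classical.Two.card_PSL_two (F := F)
      rw [h3, show Nat.gcd 2 (3 - 1) = 2 from rfl, show 3 * (3 ^ 2 - 1) = 24 from rfl] at h
      omega
    have hcK : Nat.card K ∣ 24 := by
      rw [Subgroup.card_eq_card_quotient_mul_card_subgroup (center K), hc, Nat.card_congr eR.toEquiv,
        show (24 : ℕ) = 12 * 2 from rfl]
      refine Nat.mul_dvd_mul ((card_dvd_of_le hRin).trans ?_) dvd_rfl
      rw [← hpsl]
      exact Subgroup.card_range_dvd _
    have hK24 : 24 ≤ Nat.card K := by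
      rw [Subgroup.card_eq_card_quotient_mul_card_subgroup (center K), hc, Nat.card_congr eR.toEquiv]
      have h12 : 12 ≤ Nat.card R := by
        refine le_trans ?_ (Subgroup.card_le_of_le hR)
        rw [← Nat.card_congr (MonoidHom.ofInjective (conj_injective ?_)).toEquiv, hpsl]
        exact eq_bot_iff.2 fun x hx => mem_bot.2 (psl_three_center h3 x hx)
      omega
    have hK : Nat.card K = 24 := le_antisymm (Nat.le_of_dvd (by norm_num) hcK) hK24
    have hn0 : n = 0 := by
      have h1 := Subgroup.card_subgroup_dvd_card (P : Subgroup K)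
      rw [Nat.card_congr eP.toEquiv, Nat.card_eq_fintype_card, QuaternionGroup.card, hK] at h1
      rcases n with _ | n
      · rfl
      exfalso
      have h16 : 16 ∣ 24 := (Dvd.intro (2 ^ n) (by rw [pow_succ, pow_succ]; ring) : 16 ∣ 4 * 2 ^ (n + 1 + 1)).trans h1
      omega
    subst hn0
    obtain ⟨C, hC⟩ := shape_q8 (P : Subgroup K) eP
    have hsol : Group.IsSolvable K := by
      haveI : Group.IsSolvable (Matrix.ProjectiveSpecialLinearGroup (Fin 2) F) :=
        CfsgLib.Known.GLFourTwo.isSolvable_of_lt_sixty (by omega)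
      haveI hI : Group.IsSolvable (Cfsg.Inn (Matrix.ProjectiveSpecialLinearGroup (Fin 2) F)) :=
        Group.isSolvable_of_surjective (f := (MulAut.conj :
          Matrix.ProjectiveSpecialLinearGroup (Fin 2) F →* _).rangeRestrict) (MonoidHom.rangeRestrict_surjective _)
      haveI : Group.IsSolvable R := CfsgLib.Core.isSolvable_of_le hI hRin
      haveI : Group.IsSolvable (K ⧸ center K) :=
        Group.isSolvable_of_surjective (f := eR.symm.toMonoidHom) eR.symm.surjective
      haveI : Group.IsSolvable (center K) := Group.isSolvable_of_comm fun a b => mul_comm' a b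
      exact (Group.isSolvable_iff_subgroup_quotient (center K)).2 ⟨inferInstance, inferInstance⟩
    have hPZ : (P : Subgroup K) ⊓ centralizer ((P : Subgroup K) : Set K) = center K := by
      refine le_antisymm (fun u hu => ?_) (le_inf
        (((IsPGroup.of_card (n := 1) (by rw [hc, pow_one]) : IsPGroup 2 (center K))).le_sylow_of_normal P)
        (center_le_centralizer _))
      have key : ∀ q : QuaternionGroup 2, (∀ r, q * r = r * q) → q * q = 1 := by decide
      have h2 : u * u = 1 := congrArg Subtype.val (eP.injective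
        (((map_mul eP ⟨u, hu.1⟩ ⟨u, hu.1⟩).trans (key _ fun r => by
          obtain ⟨r, rfl⟩ := eP.surjective r
          rw [← map_mul, ← map_mul]
          exact congrArg eP (Subtype.ext (mem_centralizer_iff.1 hu.2 r r.2).symm))).trans (map_one eP).symm))
      by_cases h1 : u = 1
      · rw [h1]; exact one_mem _
      · exact hinv u (CfsgLib.Signalizer.orderOf_eq_two_of h1 h2)
    have hPne : (P : Subgroup K) ≠ ⊤ := fun h => by
      have h1 := Nat.card_congr eP.toEquiv
      rw [h, Subgroup.card_top, hK, Nat.card_eq_fintype_card, QuaternionGroup.card] at h1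
      norm_num at h1
    obtain ⟨U, -, ⟨eU⟩⟩ := CfsgLib.LocalEven.DihedralSolvable.exists_sl_two_three hsol hOK P hC hPne
      (hPZ ▸ inferInstance)
    have hU : U = ⊤ := Subgroup.eq_top_of_card_eq U (by
      rw [Nat.card_congr eU.toEquiv, CfsgLib.Classical.Two.card_SL_two, ZMod.card, hK]; norm_num)
    refine ⟨K, inferInstance, ⟨ZMod 3, inferInstance, inferInstance, by rw [ZMod.card]; exact ⟨1, rfl⟩,
      ⟨(topEquiv.symm.trans (MulEquiv.subgroupCongr hU.symm)).trans eU⟩⟩, fun L₁ hL₁ hF' => ?_⟩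
    obtain ⟨F', _, _, hodd', ⟨eL⟩⟩ := hF'
    refine eq_of_le_of_card_ge (hle L₁ hL₁ F' hodd' eL) ?_
    rw [hK, Nat.card_congr eL.toEquiv, CfsgLib.Classical.Two.card_SL_two]
    have h3' : 3 ≤ Fintype.card F' := by rcases card_eq_three_or hodd' with e | e <;> omega
    calc 24 = 3 * (3 ^ 2 - 1) := rfl
      _ ≤ _ := Nat.mul_le_mul h3' (Nat.sub_le_sub_right (Nat.pow_le_pow_left h3' 2) 1)
  -- `q > 3`
  haveI := CfsgLib.Classical.isSimpleGroup_PSL_two (F := F) (show 4 ≤ Fintype.card F by omega)
  haveI := psl_perfect h3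
  have hcen : center (Matrix.ProjectiveSpecialLinearGroup (Fin 2) F) = ⊥ := by
    refine (Normal.eq_bot_or_eq_top inferInstance).resolve_right fun ht => ?_
    exact Group.IsPerfect.not_isMulCommutative _ ⟨⟨fun a b => mem_center_iff.1 (ht ▸ mem_top b) a⟩⟩
  obtain ⟨k, hk⟩ := CfsgLib.GW.KFactsProof.exists_derivedSeries_stable K
  set Y : Subgroup K := derivedSeries K k with hY
  haveI : Group.IsPerfect Y := isPerfect_iff.2 hk
  -- images of perfect subgroups are inner
  have himg : ∀ Z : Subgroup K, ⁅Z, Z⁆ = Z → Z.map φ ≤ Cfsg.Inn (Matrix.ProjectiveSpecialLinearGroup (Fin 2) F) := by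
    intro Z hZ
    have hd : ∀ j, Z ≤ derivedSeries K j := fun j => by
      induction j with
      | zero => exact le_top
      | succ j ih => rw [derivedSeries_succ, ← hZ]; exact commutator_mono ih ih
    exact ((map_mono (hd 2)).trans (map_derivedSeries_le_derivedSeries φ 2)).trans derived_two_le_inn
  -- a perfect normal subgroup outside the centre maps onto the inner automorphisms
  have honto : ∀ Z : Subgroup K, Z.Normal → ⁅Z, Z⁆ = Z → Z ≠ ⊥ →
      Cfsg.Inn (Matrix.ProjectiveSpecialLinearGroup (Fin 2) F) ≤ Z.map φ := by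
    intro Z hZn hZ hZ1
    have hN : ((Z.map φ).comap (MulAut.conj : _ →* MulAut (Matrix.ProjectiveSpecialLinearGroup (Fin 2) F))).Normal := by
      refine ⟨fun x hx g => ?_⟩
      obtain ⟨y, hy, e⟩ := hx
      have hg : MulAut.conj g ∈ φ.range := hφR ▸ hR ⟨g, rfl⟩
      obtain ⟨w, hw⟩ := hg
      refine ⟨w * y * w⁻¹, hZn.conj_mem y hy w, ?_⟩
      rw [map_mul, map_mul, map_inv, hw, e, map_mul, map_mul, map_inv]
    rcases hN.eq_bot_or_eq_top with hb | ht
    · exfalso
      refine hZ1 ?_
      rw [← hZ, commutator_eq_bot_iff_le_centralizer]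
      refine fun z hz => center_le_centralizer _ ((hφker z).1 ?_)
      obtain ⟨x, hx⟩ := himg Z hZ (mem_map_of_mem φ hz)
      have : x ∈ (⊥ : Subgroup (Matrix.ProjectiveSpecialLinearGroup (Fin 2) F)) :=
        hb ▸ (mem_comap.2 (hx ▸ mem_map_of_mem φ hz))
      rw [← hx, mem_bot.1 this, map_one]
    · rintro _ ⟨x, rfl⟩
      exact (ht ▸ mem_top x : x ∈ (Z.map φ).comap _)
  have hY1 : Y ≠ ⊥ := fun h => by
    haveI hsolK : Group.IsSolvable K := ⟨⟨k, h⟩⟩
    haveI : Group.IsSolvable R := Group.isSolvable_of_surjective (f := eR.toMonoidHom.comp π) (eR.surjective.comp hπ)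
    haveI : Group.IsSolvable (Cfsg.Inn (Matrix.ProjectiveSpecialLinearGroup (Fin 2) F)) :=
      CfsgLib.Core.isSolvable_of_le inferInstance hR
    exact Group.IsPerfect.not_isSolvable (Matrix.ProjectiveSpecialLinearGroup (Fin 2) F)
      (Group.isSolvable_of_isSolvable_injective (f := (MulAut.conj :
        Matrix.ProjectiveSpecialLinearGroup (Fin 2) F →* _).rangeRestrict)
        fun a b h => conj_injective hcen (congrArg Subtype.val h))
  haveI hYn : Y.Normal := derivedSeries_normal _ k
  let eI := MonoidHom.ofInjective (conj_injective hcen)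
  let σ : Y →* Matrix.ProjectiveSpecialLinearGroup (Fin 2) F :=
    eI.symm.toMonoidHom.comp ((φ.comp Y.subtype).codRestrict _ fun y => himg Y hk (mem_map_of_mem φ y.2))
  have hσ1 : ∀ y : Y, σ y = 1 ↔ (y : K) ∈ center K := fun y => by
    rw [← hφker]
    show eI.symm _ = 1 ↔ _
    rw [MulEquiv.map_eq_one_iff, Subtype.ext_iff]
    rfl
  have hσs : Function.Surjective σ := by
    refine eI.symm.surjective.comp fun x => ?_
    obtain ⟨y, hy, e⟩ := honto Y hYn hk hY1 x.2
    exact ⟨⟨y, hy⟩, Subtype.ext e⟩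
  have hY2 : 2 ∣ Nat.card Y := by
    obtain ⟨v, w, hvw⟩ := CfsgLib.GW.KFactsProof.exists_four (F := F)
      (CfsgLib.GW.KFactsProof.two_ne_zero_of_odd' hodd)
    exact (hvw.hv ▸ orderOf_dvd_natCard v).trans (Subgroup.card_dvd_of_surjective σ hσs)
  have hZY : center K ≤ Y := by
    obtain ⟨t, ht⟩ := exists_prime_orderOf_dvd_card' 2 hY2
    rw [← Subgroup.orderOf_coe] at ht
    refine (eq_of_le_of_card_ge (zpowers_le.2 (hinv _ ht)) ?_).ge.trans (zpowers_le.2 t.2)
    rw [Nat.card_zpowers, ht, hc]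
  have hker : σ.ker = (center K).subgroupOf Y := by
    ext y
    rw [MonoidHom.mem_ker, hσ1, mem_subgroupOf]
  obtain ⟨eY⟩ := equiv_SL_two (Group.IsPerfect.commutator_eq_top (G := Y)) hodd h3 σ hσs
    (hker ▸ fun y hy => mem_center_iff.2 fun g => Subtype.ext (mem_center_iff.1 (mem_subgroupOf.1 hy) g))
    (by rw [hker, Nat.card_congr (subgroupOfEquivOfLe hZY).toEquiv, hc])
  refine ⟨Y.map K.subtype, inferInstance, ⟨F, inferInstance, inferInstance, hodd,
    ⟨(Y.equivMapOfInjective _ K.subtype_injective).symm.trans eY⟩⟩, fun L₁ hL₁ hF' => ?_⟩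
  obtain ⟨F', _, _, hodd', ⟨eL⟩⟩ := hF'
  have hL₁K := hle L₁ hL₁ F' hodd' eL
  set Z := L₁.subgroupOf K with hZdef
  haveI : Z.Normal := hL₁.subgroupOf K
  have eZ : Z ≃* Matrix.SpecialLinearGroup (Fin 2) F' := (subgroupOfEquivOfLe hL₁K).trans eL
  have hZmap : Z.map K.subtype = L₁ := map_subgroupOf_eq_of_le hL₁K
  rcases card_eq_three_or hodd' with h3' | h3'
  · exfalso
    have hZsol : Group.IsSolvable Z := by
      haveI : Group.IsSolvable (Matrix.SpecialLinearGroup (Fin 2) F') :=
        CfsgLib.Known.GLFourTwo.isSolvable_of_lt_sixty (by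
          rw [CfsgLib.Classical.Two.card_SL_two, h3']; norm_num)
      exact Group.isSolvable_of_surjective (f := eZ.symm.toMonoidHom) eZ.symm.surjective
    haveI := hZsol
    -- the image meets the inner automorphisms trivially, so is trivial
    have hcentral : Z ≤ center K := by
      intro z hz
      rw [← hφker]
      set I := Cfsg.Inn (Matrix.ProjectiveSpecialLinearGroup (Fin 2) F)
      have hN : ((Z.map φ).comap (MulAut.conj : _ →* MulAut (Matrix.ProjectiveSpecialLinearGroup (Fin 2) F))).Normal := by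
        refine ⟨fun x hx g => ?_⟩
        obtain ⟨y, hy, e⟩ := hx
        have hg : MulAut.conj g ∈ φ.range := hφR ▸ hR ⟨g, rfl⟩
        obtain ⟨w, hw⟩ := hg
        refine ⟨w * y * w⁻¹, Subgroup.Normal.conj_mem inferInstance y hy w, ?_⟩
        rw [map_mul, map_mul, map_inv, hw, e, map_mul, map_mul, map_inv]
      have hb : (Z.map φ).comap (MulAut.conj : _ →* MulAut (Matrix.ProjectiveSpecialLinearGroup (Fin 2) F)) = ⊥ := by
        refine hN.eq_bot_or_eq_top.resolve_right fun ht => ?_
        haveI : Group.IsSolvable (Z.map φ) :=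
          Group.isSolvable_of_surjective (f := φ.subgroupMap Z) (φ.subgroupMap_surjective Z)
        exact Group.IsPerfect.not_isSolvable (Matrix.ProjectiveSpecialLinearGroup (Fin 2) F)
          (Group.isSolvable_of_isSolvable_injective (f := (MulAut.conj :
            Matrix.ProjectiveSpecialLinearGroup (Fin 2) F →* _).codRestrict (Z.map φ) fun x => mem_comap.1 (ht ▸ mem_top x))
            fun a b h => conj_injective hcen (congrArg Subtype.val h))
      refine MulEquiv.ext fun x => ?_
      rw [MulAut.one_apply]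
      obtain ⟨w, hw⟩ := (hφR ▸ hR ⟨x, rfl⟩ : MulAut.conj x ∈ φ.range)
      have h1 : ⁅φ z, MulAut.conj x⁆ ∈ Z.map φ := by
        rw [← hw, ← map_commutatorElement]
        refine mem_map_of_mem φ ?_
        rw [commutatorElement_def, show z * w * z⁻¹ * w⁻¹ = z * (w * z⁻¹ * w⁻¹) by group]
        exact mul_mem hz (Subgroup.Normal.conj_mem inferInstance _ (inv_mem hz) w)
      have h2 : ⁅φ z, MulAut.conj x⁆ = MulAut.conj (φ z x * x⁻¹) := by
        refine MulEquiv.ext fun y => ?_
        simp only [commutatorElement_def, MulAut.mul_apply, MulAut.conj_apply, map_mul, map_inv,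
          MulEquiv.apply_symm_apply, MulAut.inv_def]
      have h3 : φ z x * x⁻¹ ∈ (⊥ : Subgroup (Matrix.ProjectiveSpecialLinearGroup (Fin 2) F)) :=
        hb ▸ (mem_comap.2 (h2 ▸ h1))
      exact mul_inv_eq_one.1 (mem_bot.1 h3)
    have h := Subgroup.card_le_of_le hcentral
    rw [hc, Nat.card_congr eZ.toEquiv, CfsgLib.Classical.Two.card_SL_two, h3'] at h
    norm_num at h
  · have hZp : ⁅Z, Z⁆ = Z := by
      haveI : Group.IsPerfect (Matrix.SpecialLinearGroup (Fin 2) F') := ⟨sl_perfect h3'⟩
      haveI : Group.IsPerfect Z := Group.IsPerfect.ofSurjective (f := eZ.symm.toMonoidHom) eZ.symm.surjective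
      exact Subgroup.commutator_eq_self
    have hZY' : Z ≤ Y := by
      have hd : ∀ j, Z ≤ derivedSeries K j := fun j => by
        induction j with
        | zero => exact le_top
        | succ j ih => rw [derivedSeries_succ, ← hZp]; exact commutator_mono ih ih
      exact hd k
    have hZ1 : Z ≠ ⊥ := fun h => by
      have h' := Nat.card_congr eZ.toEquiv
      rw [h, Subgroup.card_bot, CfsgLib.Classical.Two.card_SL_two] at h'
      have h5 : 1 ≤ Fintype.card F' ^ 2 - 1 := by
        have : 2 ^ 2 ≤ Fintype.card F' ^ 2 := Nat.pow_le_pow_left (by omega) 2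
        omega
      have : 4 * 1 ≤ Fintype.card F' * (Fintype.card F' ^ 2 - 1) := Nat.mul_le_mul h3' h5
      omega
    have hsup : Y ≤ Z ⊔ center K := by
      intro y hy
      obtain ⟨z, hz, e⟩ := honto Z inferInstance hZp hZ1 (himg Y hk (mem_map_of_mem φ hy))
      rw [show y = z * (z⁻¹ * y) by group]
      refine mul_mem (mem_sup_left hz) (mem_sup_right ((hφker _).1 ?_))
      rw [map_mul, map_inv, e, inv_mul_cancel]
    rw [← hZmap]
    refine congrArg (Subgroup.map K.subtype) (le_antisymm hZY' ?_)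
    rw [← hk]
    refine (commutator_mono hsup hsup).trans (commutator_le.2 fun a ha b hb => ?_)
    obtain ⟨a1, ha1, a2, ha2, rfl⟩ := mem_sup_of_normal_right.1 ha
    obtain ⟨b1, hb1, b2, hb2, rfl⟩ := mem_sup_of_normal_right.1 hb
    have hz1 := mem_center_iff.1 ha2
    have hz2 := mem_center_iff.1 hb2
    rw [show ⁅a1 * a2, b1 * b2⁆ = ⁅a1, b1⁆ by
      simp only [commutatorElement_def, mul_inv_rev]
      calc a1 * a2 * (b1 * b2) * (a2⁻¹ * a1⁻¹) * (b2⁻¹ * b1⁻¹)
          = a1 * (a2 * (b1 * b2)) * a2⁻¹ * a1⁻¹ * b2⁻¹ * b1⁻¹ := by group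
        _ = a1 * b1 * b2 * a1⁻¹ * b2⁻¹ * b1⁻¹ := by rw [← hz1]; group
        _ = a1 * b1 * (b2 * a1⁻¹) * b2⁻¹ * b1⁻¹ := by group
        _ = a1 * b1 * a1⁻¹ * b1⁻¹ := by rw [← hz2]; group]
    rw [commutatorElement_def]
    exact mul_mem (mul_mem (mul_mem ha1 hb1) (inv_mem ha1)) (inv_mem hb1)
where
  psl_three_center {F : Type} [Field F] [Fintype F] (h3 : Fintype.card F = 3)
      (x : Matrix.ProjectiveSpecialLinearGroup (Fin 2) F)
      (hx : x ∈ center (Matrix.ProjectiveSpecialLinearGroup (Fin 2) F)) : x = 1 := by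
    have hcard : 2 * Nat.card (Matrix.ProjectiveSpecialLinearGroup (Fin 2) F) = Nat.factorial 4 := by
      have h := CfsgLib.Classical.Two.card_PSL_two (F := F)
      rw [h3] at h
      norm_num at h ⊢
      omega
    obtain ⟨e⟩ := CfsgLib.Classical.Two.psl_two_equiv_alternating (F := F) (by norm_num) (by rw [h3]) hcard
    have h : e x ∈ center (alternatingGroup (Fin 4)) := mem_center_iff.2 fun g => by
      obtain ⟨y, rfl⟩ := e.surjective g
      rw [← map_mul, ← map_mul, mem_center_iff.1 hx y]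
    rw [alternatingGroup.center_eq_bot (by simp), mem_bot, MulEquiv.map_eq_one_iff] at h
    exact h

end CfsgLib.GW.Deps.NormalSL
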