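import Cfsg.Agent.Lib.GW.Deps.RankOne
import Cfsg.Agent.Lib.Fusion.MaximalCyclic
import Cfsg.Agent.Lib.TwoGroups.FourSubgroups
import Cfsg.Agent.Lib.Recog.Zassenhaus.Nonsolvable
import Cfsg.Agent.Lib.Classical.SL2Pair
import Cfsg.Agent.Lib.OddLocal.Final.OddOrder
import Cfsg.Agent.Lib.ZStar.QuatSylow

/-!
# Non-solvable groups with quaternion Sylow 2-subgroups meeting in cyclic groups

Given Gorenstein-Walter, such a group has Sylow 2-subgroups of order `8` and a normal subgroup of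
odd index that is `SL(2, q)`, `q ≡ 3, 5 (mod 8)`, modulo the core.
-/

set_option autoImplicit false

namespace CfsgLib.GW.Deps.QuatIntersections

open Subgroup Cfsg

universe u

/-- If distinct Sylow subgroups have cyclic intersections, a non-cyclic subgroup lies in one only. -/
theorem eq_of_common {G : Type u} [Group G] {p : ℕ}
    (hC : ∀ S T : Sylow p G, S ≠ T → IsCyclic ↥((S : Subgroup G) ⊓ (T : Subgroup G)))
    {Q : Subgroup G} (hQ : ¬ IsCyclic Q) {S T : Sylow p G} (hS : Q ≤ (S : Subgroup G))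
    (hT : Q ≤ (T : Subgroup G)) : S = T := by
  by_contra h
  have := hC S T h
  exact hQ (isCyclic_of_injective (Subgroup.inclusion (le_inf hS hT))
    (Subgroup.inclusion_injective _))

/-- An element of odd order normalising a cyclic 2-group centralises it. -/
theorem mem_centralizer_of_cyclic {G : Type u} [Group G] [Finite G] {Q : Subgroup G}
    (hQ : IsPGroup 2 Q) [IsCyclic Q] {g : G} (hg : g ∈ normalizer (Q : Set G))
    (ho : Odd (orderOf g)) : g ∈ centralizer (Q : Set G) := by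
  have : Fact (Nat.Prime 2) := ⟨Nat.prime_two⟩
  have h1 : orderOf (Q.normalizerMonoidHom ⟨g, hg⟩) ∣ orderOf g :=
    (orderOf_map_dvd _ _).trans (Subgroup.orderOf_mk g hg).dvd
  obtain ⟨k, hk⟩ := IsPGroup.iff_card.1 hQ
  have h2 : orderOf (Q.normalizerMonoidHom ⟨g, hg⟩) ∣ Nat.totient (2 ^ k) := by
    rw [← hk, ← IsCyclic.card_mulAut]
    exact orderOf_dvd_natCard _
  have h3 : orderOf (Q.normalizerMonoidHom ⟨g, hg⟩) ∣ 2 ^ k := by
    refine h2.trans ?_
    rcases k with _ | k
    · simp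
    · rw [Nat.totient_prime_pow Nat.prime_two k.succ_pos]
      simp [pow_succ]
  have h4 : (⟨g, hg⟩ : normalizer (Q : Set G)) ∈ Q.normalizerMonoidHom.ker :=
    MonoidHom.mem_ker.2 (orderOf_eq_one_iff.1 (Nat.eq_one_of_dvd_coprimes
      ((Nat.coprime_two_right.2 ho).pow_right k) h1 h3))
  rw [Subgroup.normalizerMonoidHom_ker] at h4
  exact h4

theorem mod_eight_of_factorization {q : ℕ} (hodd : Odd q)
    (h : (q * (q ^ 2 - 1)).factorization 2 = 3) : q % 8 = 3 ∨ q % 8 = 5 := by
  by_contra hcon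
  obtain ⟨k, rfl⟩ := hodd
  have hk : k ≠ 0 := by rintro rfl; norm_num at h
  have hk4 : k % 4 = 0 ∨ k % 4 = 3 := by omega
  have he : (2 * k + 1) ^ 2 - 1 = 4 * (k * (k + 1)) := by
    rw [show (2 * k + 1) ^ 2 = 4 * (k * (k + 1)) + 1 by ring]; omega
  have h4 : 4 ∣ k * (k + 1) := by
    rcases hk4 with e | e
    · exact (Nat.dvd_of_mod_eq_zero e).mul_right _
    · exact (show 4 ∣ k + 1 by omega).mul_left _
  have h16 : 2 ^ 4 ∣ (2 * k + 1) * ((2 * k + 1) ^ 2 - 1) := by
    rw [he]
    exact (show 2 ^ 4 = 4 * 4 by norm_num) ▸ (mul_dvd_mul_left 4 h4).mul_left _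
  have hne : (2 * k + 1) * ((2 * k + 1) ^ 2 - 1) ≠ 0 := by
    rw [he]
    positivity
  have := (Nat.prime_two.pow_dvd_iff_le_factorization hne).1 h16
  omega

variable {G : Type u} [Group G] [Finite G]

/-- The Sylow 2-subgroups have order eight. -/
theorem sylow_eight (hns : ¬ Group.IsSolvable G)
    (hQ : ∀ S : Sylow 2 G, ∃ n : ℕ, Nonempty (↥(S : Subgroup G) ≃* QuaternionGroup (2 ^ (n + 1))))
    (hC : ∀ S T : Sylow 2 G, S ≠ T → IsCyclic ↥((S : Subgroup G) ⊓ (T : Subgroup G)))
    (S : Sylow 2 G) : Nonempty (↥(S : Subgroup G) ≃* QuaternionGroup 2) := by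
  classical
  have : Fact (Nat.Prime 2) := ⟨Nat.prime_two⟩
  obtain ⟨n, ⟨e⟩⟩ := hQ S
  rcases Nat.eq_zero_or_pos n with rfl | hn
  · exact ⟨e⟩
  exfalso
  have hno : ¬ HasNormalPComplement 2 G := by
    intro h
    obtain ⟨P, K, hK, hc⟩ := h
    have : K.Normal := hK
    have hcop : Nat.Coprime (Nat.card K) 2 := by
      rw [← hc.index_eq_card, Nat.coprime_comm, Nat.prime_two.coprime_iff_not_dvd]
      exact P.not_dvd_index
    have h1 : Group.IsSolvable K :=
      CfsgLib.OddLocal.FTFinal.odd_order_solvable (Nat.coprime_two_right.1 hcop)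
    have hp : IsPGroup 2 (G ⧸ K) :=
      P.isPGroup'.of_equiv (Subgroup.IsComplement'.QuotientMulEquiv hc.symm).symm
    have : Group.IsNilpotent (G ⧸ K) := hp.isNilpotent
    exact hns (Group.isSolvable_of_ker_le_range K.subtype (QuotientGroup.mk' K)
      (by rw [QuotientGroup.ker_mk', range_subtype]))
  rw [CfsgLib.Transfer.hasNormalPComplement_iff_centralizes S] at hno
  push Not at hno
  obtain ⟨Q, hQS, g, hgN, hgo, hgC⟩ := hno
  have hodd : Odd (orderOf g) := Nat.coprime_two_right.1 hgo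
  have hncyc : ¬ IsCyclic Q := fun h =>
    hgC (mem_centralizer_of_cyclic (S.2.to_le hQS) hgN hodd)
  have hgS : g ∈ normalizer ((S : Subgroup G) : Set G) := by
    have hle : Q ≤ ((g • S : Sylow 2 G) : Subgroup G) := by
      intro q hq
      rw [Sylow.coe_subgroup_smul]
      refine ⟨g⁻¹ * q * g, hQS ((mem_normalizer_iff''.1 hgN q).1 hq), ?_⟩
      show g * (g⁻¹ * q * g) * g⁻¹ = q
      group
    exact Sylow.smul_eq_iff_mem_normalizer.1 (eq_of_common hC hncyc hle hQS)
  let f := (MulAut.congr e).toMonoidHom.comp (S : Subgroup G).normalizerMonoidHom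
  obtain ⟨k, hk⟩ := CfsgLib.Fusion.quaternion_aut (M := n + 1) (by omega) (f ⟨g, hgS⟩)
  have h1 : orderOf (f ⟨g, hgS⟩) ∣ orderOf g :=
    (orderOf_map_dvd f _).trans (Subgroup.orderOf_mk g hgS).dvd
  have h2 : f ⟨g, hgS⟩ = 1 := orderOf_eq_one_iff.1 (Nat.eq_one_of_dvd_coprimes
    ((Nat.coprime_two_right.2 hodd).pow_right k) h1 (orderOf_dvd_of_pow_eq_one hk))
  have h3 : (⟨g, hgS⟩ : normalizer ((S : Subgroup G) : Set G)) ∈
      (S : Subgroup G).normalizerMonoidHom.ker :=
    MonoidHom.mem_ker.2 ((MulAut.congr e).injective (h2.trans (map_one _).symm))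
  rw [Subgroup.normalizerMonoidHom_ker] at h3
  exact hgC (centralizer_le hQS h3)

/-- Such a group has 2-rank one. -/
theorem rank_one (hQ : ∀ S : Sylow 2 G, Nonempty (↥(S : Subgroup G) ≃* QuaternionGroup 2))
    (L : Subgroup G) : PRankLE 2 1 L := by
  have : Fact (Nat.Prime 2) := ⟨Nat.prime_two⟩
  classical
  by_contra h
  obtain ⟨W, hW⟩ := CfsgLib.TwoGroups.not_pRankLE_top_iff_exists_klein.1 h
  have hWp : IsPGroup 2 (W.map L.subtype) :=
    (IsPGroup.of_card (n := 2) (by rw [hW.card_four]; norm_num) : IsPGroup 2 W).map _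
  obtain ⟨S, hS⟩ := hWp.exists_le_sylow
  obtain ⟨e⟩ := hQ S
  have hex : ∀ w : W, w ≠ 1 → orderOf w = 2 := fun w hw =>
    orderOf_eq_prime (hW.exponent_two ▸ Monoid.pow_exponent_eq_one w) hw
  obtain ⟨a, b, ha, hb, hab⟩ : ∃ a b : W, a ≠ 1 ∧ b ≠ 1 ∧ a ≠ b := by
    by_contra hcon
    push Not at hcon
    have : Fintype W := Fintype.ofFinite _
    have h4 : Fintype.card W = 4 := by rw [← Nat.card_eq_fintype_card]; exact hW.card_four
    have hc : (Finset.univ.erase (1 : W)).card ≤ 1 := Finset.card_le_one.2 fun x hx y hy =>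
      hcon x y (Finset.ne_of_mem_erase hx) (Finset.ne_of_mem_erase hy)
    rw [Finset.card_erase_of_mem (Finset.mem_univ _), Finset.card_univ, h4] at hc
    omega
  let ι : W → (S : Subgroup G) := fun w => ⟨((w : L) : G), hS ⟨(w : L), w.2, rfl⟩⟩
  have hord : ∀ w : W, w ≠ 1 → orderOf (e (ι w)) = 2 := fun w hw => by
    rw [MulEquiv.orderOf_eq, Subgroup.orderOf_mk, Subgroup.orderOf_coe, Subgroup.orderOf_coe,
      hex w hw]
  exact hab (Subtype.ext (Subtype.ext (congrArg (fun s : (S : Subgroup G) => (s : G))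
    (e.injective (CfsgLib.ZStar.quaternion_unique_involution (hord a ha) (hord b hb))))))

/-- **S3307** given Gorenstein-Walter. -/
theorem main (gw : CfsgLib.GW.GWStatement.{u}) (hns : ¬ Group.IsSolvable G)
    (hQ : ∀ S : Sylow 2 G, ∃ n : ℕ, Nonempty (↥(S : Subgroup G) ≃* QuaternionGroup (2 ^ (n + 1))))
    (hC : ∀ S T : Sylow 2 G, S ≠ T → IsCyclic ↥((S : Subgroup G) ⊓ (T : Subgroup G))) :
    (∀ S : Sylow 2 G, Nonempty (↥(S : Subgroup G) ≃* QuaternionGroup 2)) ∧
    ∃ (G₁ : Subgroup G) (_ : G₁.Normal) (_ : ((Cfsg.oddCore G).subgroupOf G₁).Normal),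
      Odd G₁.index ∧ Cfsg.oddCore G ≤ G₁ ∧
      ∃ (F : Type) (_ : Field F) (_ : Fintype F), (Fintype.card F % 8 = 3 ∨ Fintype.card F % 8 = 5) ∧ 3 < Fintype.card F ∧
        Nonempty (↥G₁ ⧸ (Cfsg.oddCore G).subgroupOf G₁ ≃* Matrix.SpecialLinearGroup (Fin 2) F) := by
  classical
  have : Fact (Nat.Prime 2) := ⟨Nat.prime_two⟩
  have h8 := sylow_eight hns hQ hC
  refine ⟨h8, ?_⟩
  obtain ⟨L, hLn, hLc, hLne, hLp⟩ := CfsgLib.Recog.Zassenhaus.exists_perfect_normal hns
  have hperf : Group.IsPerfect L := ⟨hLp⟩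
  have hLeven : Even (Nat.card L) := by
    by_contra h
    have := CfsgLib.OddLocal.FTFinal.odd_order_solvable (Nat.not_even_iff_odd.1 h)
    have : Nontrivial L := (nontrivial_iff_ne_bot L).2 hLne
    exact (Group.IsSolvable.commutator_lt_top_of_nontrivial L).ne hLp
  obtain ⟨P⟩ := (inferInstance : Nonempty (Sylow 2 L))
  obtain ⟨k, ⟨eP⟩⟩ := sylow_quaternion hLp (rank_one h8 L) hLeven P
  obtain ⟨S⟩ := (inferInstance : Nonempty (Sylow 2 G))
  have hcS : Nat.card (S : Subgroup G) = 8 := by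
    obtain ⟨e⟩ := h8 S
    rw [Nat.card_congr e.toEquiv, Nat.card_eq_fintype_card, QuaternionGroup.card]
  have hGv : (Nat.card G).factorization 2 = 3 := by
    have h := S.card_eq_multiplicity
    rw [hcS, show (8 : ℕ) = 2 ^ 3 by norm_num] at h
    exact (Nat.pow_right_injective le_rfl h).symm
  have hLv : (Nat.card L).factorization 2 = 3 := by
    refine le_antisymm (hGv ▸ (Nat.factorization_le_iff_dvd Nat.card_pos.ne' Nat.card_pos.ne').2
      (card_subgroup_dvd_card L) 2) ?_
    have h := P.card_eq_multiplicity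
    rw [Nat.card_congr eP.toEquiv, Nat.card_eq_fintype_card, QuaternionGroup.card] at h
    refine (Nat.pow_le_pow_iff_right one_lt_two).1 ?_
    rw [← h]
    have := Nat.le_self_pow (Nat.succ_ne_zero k) 2
    norm_num
    omega
  have hLodd : Odd L.index := by
    have h := congrArg (fun m : ℕ => m.factorization 2) L.card_mul_index
    rw [Nat.factorization_mul Nat.card_pos.ne' Subgroup.index_ne_zero_of_finite] at h
    simp only [Finsupp.add_apply, hLv, hGv, add_eq_left] at h
    rw [Nat.factorization_eq_zero_iff] at h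
    rcases h with h | h | h
    · exact absurd Nat.prime_two h
    · exact Nat.not_even_iff_odd.1 fun he => h (even_iff_two_dvd.1 he)
    · exact absurd h Subgroup.index_ne_zero_of_finite
  set O := oddCore G
  have hOn : O.Normal := inferInstance
  refine ⟨L ⊔ O, inferInstance, inferInstance, ?_, le_sup_right, ?_⟩
  · exact hLodd.of_dvd_nat (Subgroup.index_dvd_of_le le_sup_left)
  have hinf : O.subgroupOf L = oddCore L := by
    refine le_antisymm (CfsgLib.Core.pPrimeCore_subgroupOf_le L) fun x hx => ?_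
    exact CfsgLib.Core.map_subtype_pPrimeCore_le L ⟨x, hx, rfl⟩
  let iso : L ⧸ oddCore L ≃* ↥(L ⊔ O) ⧸ O.subgroupOf (L ⊔ O) :=
    (QuotientGroup.quotientMulEquivOfEq hinf.symm).trans
      (QuotientGroup.quotientInfEquivProdNormalQuotient L O)
  have hmul : Nat.card L = Nat.card (L ⧸ oddCore L) * Nat.card (oddCore L) :=
    Subgroup.card_eq_card_quotient_mul_card_subgroup _
  have hcoreO : Odd (Nat.card (oddCore L)) := odd_card_core L
  have hqv : (Nat.card (L ⧸ oddCore L)).factorization 2 = 3 := by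
    have h := congrArg (fun m : ℕ => m.factorization 2) hmul
    rw [Nat.factorization_mul Nat.card_pos.ne' Nat.card_pos.ne'] at h
    simp only [Finsupp.add_apply, hLv] at h
    have h0 : (Nat.card (oddCore L)).factorization 2 = 0 :=
      Nat.factorization_eq_zero_of_not_dvd fun hd => Nat.not_even_iff_odd.2 hcoreO (even_iff_two_dvd.2 hd)
    omega
  rcases perfect_rank_one gw hperf (rank_one h8 L) hLeven with ⟨F, iF, iFF, hodd, h3, ⟨e⟩⟩ | hA
  · refine ⟨F, iF, iFF, ?_, h3, ⟨iso.symm.trans e⟩⟩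
    rw [Nat.card_congr e.toEquiv, CfsgLib.Classical.SL2Pair.card_SL_two] at hqv
    exact mod_eight_of_factorization hodd hqv
  · exfalso
    obtain ⟨hc, ⟨e⟩, -⟩ := hA
    have h := (center (L ⧸ oddCore L)).card_eq_card_quotient_mul_card_subgroup
    rw [hc, Nat.card_congr e.toEquiv, nat_card_alternatingGroup, Nat.card_fin] at h
    rw [h, show Nat.factorial 7 / 2 * 2 = 2 ^ 4 * 315 by decide,
      Nat.factorization_mul (by norm_num) (by norm_num)] at hqv
    rw [Finsupp.add_apply, Nat.prime_two.factorization_pow, Finsupp.single_eq_same] at hqv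
    have h0 : (315 : ℕ).factorization 2 = 0 := Nat.factorization_eq_zero_of_not_dvd (by norm_num)
    omega

end CfsgLib.GW.Deps.QuatIntersections
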