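import Cfsg.Agent.Lib.GW.Deps.RankOne
import Cfsg.Agent.Lib.GW.KFactsProof.Linear
import Cfsg.Agent.Lib.GW.KFactsProof.Seven
import Cfsg.Agent.Lib.Known.AutPSL.FieldClass
import Cfsg.Agent.Lib.LocalEvenB.SubnormalBlocks.SL2Section
import Cfsg.Agent.Lib.OddLocal.Coprime
import Cfsg.Agent.Lib.PGroups.FixedPointRank

/-!
# Tools for the normal `SL(2, F)` of a group with quaternion Sylow subgroups of a normal subgroup
-/

set_option autoImplicit false
set_option linter.style.haveILetI false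

namespace CfsgLib.GW.Deps.QuatTools

open Subgroup
open scoped commutatorElement

theorem quat_noncomm : ¬ IsMulCommutative (QuaternionGroup 4) := fun h => by
  have h' := h.is_comm.comm (QuaternionGroup.a 1 : QuaternionGroup 4) (.xa 0)
  revert h'
  decide

theorem not_le_commutative {T : Type*} [Group T] {P A : Subgroup T} (eP : P ≃* QuaternionGroup 4)
    (hA : ∀ a ∈ A, ∀ b ∈ A, Commute a b) : ∃ p ∈ P, p ∉ A := by
  by_contra hno
  push Not at hno
  refine quat_noncomm ⟨⟨fun g h => ?_⟩⟩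
  obtain ⟨g, rfl⟩ := eP.surjective g
  obtain ⟨h, rfl⟩ := eP.surjective h
  rw [← map_mul, ← map_mul]
  exact congrArg eP (Subtype.ext (hA _ (hno _ g.2) _ (hno _ h.2)).eq)

theorem not_centralizes_quasiDihedral {T : Type*} [Group T] [Finite T] (hT : Cfsg.IsQuasiDihedral T)
    (P : Subgroup T) (eP : P ≃* QuaternionGroup 4) : ∃ s : T, ∃ p ∈ P, ¬ Commute (s ^ 4) p := by
  obtain ⟨n, hn, hcard, x, y, hx, hy, hrel⟩ := hT
  obtain ⟨k, rfl⟩ : ∃ k, n = k + 3 := ⟨n - 3, by omega⟩
  by_contra hall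
  push Not at hall
  set A := zpowers x
  have hAi : A.index = 2 := by
    have h := A.card_mul_index
    rw [Nat.card_zpowers, hx, hcard, pow_succ 2 (k + 3)] at h
    exact Nat.eq_of_mul_eq_mul_left (by positivity) h
  have hAc : ∀ a ∈ A, ∀ b ∈ A, Commute a b := fun a ha b hb => by
    obtain ⟨i, rfl⟩ := mem_zpowers_iff.1 ha
    obtain ⟨j, rfl⟩ := mem_zpowers_iff.1 hb
    exact ((Commute.refl x).zpow_zpow i j)
  have hr : (2 : ℕ) ^ (k + 3 - 1) - 1 = 4 * 2 ^ k - 1 := by
    rw [show k + 3 - 1 = k + 2 from rfl, pow_add]; omega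
  rw [hr] at hrel
  have hk1 : 1 ≤ 2 ^ k := Nat.one_le_two_pow
  have hmod : ∀ i : ℕ, (x ^ i) ^ (4 * 2 ^ k - 1) = x ^ i → 2 ^ (k + 3) ∣ i * (4 * 2 ^ k - 2) := by
    intro i hi
    refine hx ▸ orderOf_dvd_of_pow_eq_one (mul_right_cancel (b := x ^ i) ?_)
    rw [one_mul, ← pow_add]
    conv_rhs => rw [← hi, ← pow_mul]
    congr 1
    rw [show 4 * 2 ^ k - 1 = (4 * 2 ^ k - 2) + 1 by omega, Nat.mul_succ]
  have hyA : y ∉ A := fun h => by
    have h' := (hAc y h x (mem_zpowers x)).eq
    rw [← eq_mul_inv_iff_mul_eq.2 h'.symm] at hrel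
    have h2 := hmod 1 (by rw [pow_one]; exact hrel.symm)
    rw [one_mul] at h2
    have := Nat.le_of_dvd (by omega) h2
    rw [pow_add] at this
    omega
  obtain ⟨p, hpP, hpA⟩ := not_le_commutative eP hAc
  set a := p * y⁻¹
  have ha : a ∈ A := (mul_mem_iff_of_index_two hAi).2 (by simp [hpA, hyA])
  have hpx : p * x * p⁻¹ = x ^ (4 * 2 ^ k - 1) := by
    rw [show p = a * y by simp [a], show a * y * x * (a * y)⁻¹ = a * (y * x * y⁻¹) * a⁻¹ by group, hrel,
      (hAc a ha _ (pow_mem (mem_zpowers x) _)).eq, mul_inv_cancel_right]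
  have h4 := hmod 4 (by
    rw [← pow_mul, mul_comm, pow_mul, ← hpx, conj_pow, ← (hall x p hpP).eq, mul_inv_cancel_right])
  obtain rfl : k = 0 := by
    rcases k with _ | j
    · rfl
    exfalso
    rw [show 4 * (4 * 2 ^ (j + 1) - 2) = 2 ^ 3 * (2 * 2 ^ (j + 1) - 1) by omega,
      show j + 1 + 3 = 3 + (j + 1) by omega, pow_add 2 3] at h4
    have h5 := (dvd_pow_self 2 j.succ_ne_zero).trans (Nat.dvd_of_mul_dvd_mul_left (by norm_num) h4)
    have : 1 ≤ 2 ^ (j + 1) := Nat.one_le_two_pow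
    omega
  have hP : P = ⊤ := Subgroup.eq_top_of_card_eq P (by
    rw [hcard, Nat.card_congr eP.toEquiv, Nat.card_eq_fintype_card, QuaternionGroup.card]; norm_num)
  have hinv : ∀ w : T, orderOf w = 2 → eP ⟨w, hP ▸ mem_top w⟩ = .a (4 : ZMod 8) := fun w hw =>
    CfsgLib.Fusion.eq_of_orderOf_two (by rw [eP.orderOf_eq, Subgroup.orderOf_mk, hw])
  have hx4 : orderOf (x ^ 4) = 2 := by
    rw [orderOf_pow_of_dvd (by norm_num) (by rw [hx]; norm_num), hx]; norm_num
  have he := congrArg Subtype.val (eP.injective ((hinv y hy).trans (hinv (x ^ 4) hx4).symm))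
  have he' : y = x ^ 4 := he
  exact hyA (he' ▸ pow_mem (mem_zpowers x) 4)

theorem not_centralizes_wreathed {T : Type*} [Group T] [Finite T] (hT : Cfsg.IsWreathed T)
    (P : Subgroup T) (eP : P ≃* QuaternionGroup 4) : ∃ s : T, ∃ p ∈ P, ¬ Commute (s ^ 4) p := by
  obtain ⟨n, hn, hcard, x, y, z, hx, hxy, hdis, -, hzx⟩ := hT
  by_contra hall
  push Not at hall
  have hy : orderOf y = 2 ^ n := by rw [← hzx, CfsgLib.Signalizer.orderOf_conj, hx]
  set A : Subgroup T := closure {x, y} with hAdef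
  have hAc : ∀ a ∈ A, ∀ b ∈ A, Commute a b := CfsgLib.PGroups.FixRank.closure_pair_comm hxy
  have hAeq : A = zpowers x ⊔ zpowers y := by
    rw [hAdef, Set.insert_eq, Subgroup.closure_union, Subgroup.zpowers_eq_closure, Subgroup.zpowers_eq_closure]
  have hxA : x ∈ A := subset_closure (by simp)
  have hyA : y ∈ A := subset_closure (by simp)
  have hAi : A.index = 2 := by
    have h := A.card_mul_index
    have hc : Nat.card A = 2 ^ n * 2 ^ n := by
      rw [hAeq, CfsgLib.Core.card_sup_of_disjoint _ _ (fun g hg => centralizer_le_normalizer _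
        (mem_centralizer_iff.2 fun w hw => (hAc w (zpowers_le.2 hyA hw) g (zpowers_le.2 hxA hg)).eq))
        hdis, Nat.card_zpowers, Nat.card_zpowers, hx, hy]
    rw [hc, hcard, show 2 * n + 1 = n + n + 1 by omega, pow_succ, pow_add] at h
    exact Nat.eq_of_mul_eq_mul_left (by positivity) h
  have hz : z ∉ A := fun h => by
    rw [(hAc z h x hxA).eq, mul_inv_cancel_right] at hzx
    rw [← hzx, inf_idem, zpowers_eq_bot] at hdis
    rw [hdis, orderOf_one] at hx
    exact absurd hx.symm (Nat.one_lt_two_pow (by omega)).ne'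
  obtain ⟨p, hpP, hpA⟩ := not_le_commutative eP hAc
  set a := p * z⁻¹
  have ha : a ∈ A := (mul_mem_iff_of_index_two hAi).2 (by simp [hpA, hz])
  have hpx : p * x * p⁻¹ = y := by
    rw [show p = a * z by simp [a], show a * z * x * (a * z)⁻¹ = a * (z * x * z⁻¹) * a⁻¹ by group, hzx,
      (hAc a ha y hyA).eq, mul_inv_cancel_right]
  have h4 : x ^ 4 = y ^ 4 := by rw [← hpx, conj_pow, ← (hall x p hpP).eq, mul_inv_cancel_right]
  have hx4 : x ^ 4 = 1 := Subgroup.disjoint_def.1 (disjoint_iff.2 hdis) (pow_mem (mem_zpowers x) 4)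
    (h4 ▸ pow_mem (mem_zpowers y) 4)
  have hpow : ∀ b ∈ A, b ^ 4 = 1 := CfsgLib.PGroups.FixRank.closure_pair_pow hxy hx4 (h4 ▸ hx4)
  set i : QuaternionGroup 4 →* T := P.subtype.comp eP.symm.toMonoidHom
  have hi : Function.Injective i := P.subtype_injective.comp eP.symm.injective
  have h1A : i (.a 1) ∉ A := fun h => by
    have h' := hi ((map_pow i _ _).trans ((hpow _ h).trans (map_one i).symm))
    revert h'
    decide
  have h2A : i (.a 1 * .a 1) ∈ A := by rw [map_mul]; exact mul_self_mem_of_index_two hAi _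
  by_cases hq : i (.xa 0) ∈ A
  · have h' := hAc _ h2A _ hq
    rw [Commute, SemiconjBy, ← map_mul, ← map_mul] at h'
    have h'' := hi h'
    revert h''
    decide
  · have hm : i (.xa 0 * .a 1) ∈ A := by
      rw [map_mul]; exact (mul_mem_iff_of_index_two hAi).2 (by simp [hq, h1A])
    have h' := hAc _ h2A _ hm
    rw [Commute, SemiconjBy, ← map_mul, ← map_mul] at h'
    have h'' := hi h'
    revert h''
    decide

theorem not_centralizes {T : Type*} [Group T] [Finite T] (hT : Cfsg.IsQuasiDihedral T ∨ Cfsg.IsWreathed T)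
    (P : Subgroup T) (eP : P ≃* QuaternionGroup 4) : ∃ s : T, ∃ p ∈ P, ¬ Commute (s ^ 4) p :=
  hT.elim (fun h => not_centralizes_quasiDihedral h P eP) fun h => not_centralizes_wreathed h P eP

/-- Elements of `2`-power order of `S₇` have order at most four. -/
theorem perm_seven_pow_four {g : Equiv.Perm (Fin 7)} {j : ℕ} (h : g ^ 2 ^ j = 1) : g ^ 4 = 1 := by
  rw [← orderOf_dvd_iff_pow_eq_one, ← Equiv.Perm.lcm_cycleType, Multiset.lcm_dvd]
  intro c hc
  obtain ⟨i, -, rfl⟩ := (Nat.dvd_prime_pow Nat.prime_two).1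
    ((Equiv.Perm.dvd_of_mem_cycleType hc).trans (orderOf_dvd_of_pow_eq_one h))
  have h7 : 2 ^ i ≤ 7 := by
    have h1 := Multiset.le_sum_of_mem hc
    rw [Equiv.Perm.sum_cycleType] at h1
    exact h1.trans ((Finset.card_le_univ _).trans (Fintype.card_fin 7).le)
  have : i ≤ 2 := by
    by_contra h3
    exact absurd ((Nat.pow_le_pow_right (by norm_num) (show 3 ≤ i by omega)).trans h7) (by norm_num)
  exact pow_dvd_pow 2 this

/-- A normal subgroup of `2`-power index is everything when the abelianisation is odd. -/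
theorem eq_top_of_two_power_index {Y : Type*} [Group Y] [Finite Y] (hY : ¬ 2 ∣ (commutator Y).index)
    (M : Subgroup Y) [M.Normal] {a : ℕ} (hM : M.index = 2 ^ a) : M = ⊤ := by
  haveI : Fact (Nat.Prime 2) := ⟨Nat.prime_two⟩
  by_contra hne
  haveI : Nontrivial (Y ⧸ M) := QuotientGroup.nontrivial_iff.2 hne
  obtain ⟨W, hWn, hW, -⟩ := CfsgLib.OddLocal.exists_normal_index_prime (p := 2) (H := Y ⧸ M)
    (IsPGroup.of_card (n := a) (by rw [← Subgroup.index_eq_card, hM]))
  set W' := W.comap (QuotientGroup.mk' M)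
  have hi : W'.index = 2 := by rw [index_comap_of_surjective _ (QuotientGroup.mk'_surjective M), hW]
  haveI : W'.Normal := Subgroup.normal_of_index_eq_two hi
  haveI : IsCyclic (Y ⧸ W') := isCyclic_of_prime_card (p := 2) (by rw [← Subgroup.index_eq_card, hi])
  let _ : CommGroup (Y ⧸ W') := IsCyclic.commGroup
  have hle : commutator Y ≤ W' := Subgroup.Normal.quotient_commutative_iff_commutator_le.1 inferInstance
  exact hY (hi ▸ Subgroup.index_dvd_of_le hle)

section SL

variable {F : Type} [Field F] [Fintype F]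

theorem card_eq_three_or (hodd : Odd (Fintype.card F)) : Fintype.card F = 3 ∨ 3 < Fintype.card F := by
  have := Fintype.one_lt_card (α := F)
  obtain ⟨d, hd⟩ := hodd
  omega

theorem sl_perfect (h3 : 3 < Fintype.card F) : commutator (Matrix.SpecialLinearGroup (Fin 2) F) = ⊤ := by
  obtain ⟨a, ha, ha2⟩ := CfsgLib.Known.SLn.exists_pow_ne_one (F := F) 2 fun hd => by
    rw [Nat.card_eq_fintype_card] at hd
    have := Nat.le_of_dvd (by norm_num) hd
    omega
  exact Matrix.SL2.commutator_eq_top ha ha2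

theorem psl_perfect (h3 : 3 < Fintype.card F) :
    Group.IsPerfect (Matrix.ProjectiveSpecialLinearGroup (Fin 2) F) := by
  haveI : Group.IsPerfect (Matrix.SpecialLinearGroup (Fin 2) F) := ⟨sl_perfect h3⟩
  exact Group.IsPerfect.ofSurjective (QuotientGroup.mk'_surjective (center (Matrix.SpecialLinearGroup (Fin 2) F)))

theorem sl_abelianization_odd (hodd : Odd (Fintype.card F)) :
    ¬ 2 ∣ (commutator (Matrix.SpecialLinearGroup (Fin 2) F)).index := by
  rcases card_eq_three_or hodd with h | h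
  · let e : ZMod 3 ≃+* F := ZMod.ringEquivOfPrime F Nat.prime_three h
    let φ : Matrix.SpecialLinearGroup (Fin 2) (ZMod 3) →* Matrix.SpecialLinearGroup (Fin 2) F :=
      Matrix.SpecialLinearGroup.map e.toRingHom
    have hsurj : Function.Surjective φ := fun g =>
      ⟨Matrix.SpecialLinearGroup.map e.symm.toRingHom g, Subtype.ext (Matrix.ext fun i j => by simp [φ])⟩
    have hc : commutator (Matrix.SpecialLinearGroup (Fin 2) F) =
        (commutator (Matrix.SpecialLinearGroup (Fin 2) (ZMod 3))).map φ := by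
      rw [_root_.commutator_def, _root_.commutator_def, map_commutator, Subgroup.map_top_of_surjective φ hsurj]
    intro h2
    have h3 : (commutator (Matrix.SpecialLinearGroup (Fin 2) (ZMod 3))).index = 3 := by
      have h := (commutator (Matrix.SpecialLinearGroup (Fin 2) (ZMod 3))).card_mul_index
      rw [CfsgLib.LocalEvenB.SubBlocks.card_commutator_sl23, CfsgLib.Classical.Two.card_SL_two, ZMod.card] at h
      omega
    rw [hc] at h2
    have := h2.trans (Subgroup.index_map_dvd _ hsurj)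
    rw [h3] at this
    omega
  · rw [sl_perfect h, index_top]; omega

/-- The second derived group of the automorphism group of `PSL(2, q)` consists of inner automorphisms. -/
theorem derived_two_le_inn :
    derivedSeries (MulAut (Matrix.ProjectiveSpecialLinearGroup (Fin 2) F)) 2 ≤
      Cfsg.Inn (Matrix.ProjectiveSpecialLinearGroup (Fin 2) F) := by
  classical
  obtain ⟨p, hchar⟩ := CharP.exists F
  obtain ⟨f, hp, hf⟩ := FiniteField.card F p
  haveI := Fact.mk hp
  obtain ⟨-, hcyc⟩ := CfsgLib.Known.AutPSL.card_ringAut (F := F) hf f.pos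
  obtain ⟨θ, hθ, -⟩ := CfsgLib.Known.AutPSL.exists_theta (F := F) (n := 2) le_rfl
  haveI := hcyc
  letI := IsCyclic.commGroup (α := F ≃+* F)
  have h1 : derivedSeries (MulAut (Matrix.ProjectiveSpecialLinearGroup (Fin 2) F)) 1 ≤
      (CfsgLib.Known.AutPSL.innDiag 2 F).range := by
    rw [← hθ, derivedSeries_one, _root_.commutator_def, commutator_le]
    intro a _ b _
    rw [MonoidHom.mem_ker, map_commutatorElement, commutatorElement_eq_one_iff_mul_comm]
    exact Prod.ext (mul_comm (θ a).1 (θ b).1) (mul_comm (θ a).2 (θ b).2)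
  rw [derivedSeries_succ]
  refine (commutator_mono h1 h1).trans (commutator_le.2 ?_)
  rintro _ ⟨g, rfl⟩ _ ⟨h, rfl⟩
  rw [← map_commutatorElement, CfsgLib.Known.AutPSL.innDiag_apply, ← CfsgLib.Known.AutPSL.mkAut_false,
    CfsgLib.Known.AutPSL.mem_inn_iff le_rfl _ _ _ (fun _ => rfl)]
  refine ⟨rfl, rfl, 1, ?_⟩
  rw [map_commutatorElement, one_pow, commutatorElement_eq_one_iff_mul_comm]
  exact mul_comm _ _

/-- Squares of automorphisms of `PSL(2, 3)` are inner. -/
theorem sq_mem_inn (h3 : Fintype.card F = 3) (α : MulAut (Matrix.ProjectiveSpecialLinearGroup (Fin 2) F)) :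
    α * α ∈ Cfsg.Inn (Matrix.ProjectiveSpecialLinearGroup (Fin 2) F) := by
  obtain ⟨g, σ, e, rfl, he⟩ := CfsgLib.Known.AutPSL.exists_mkAut (le_refl 2) α
  obtain rfl : e = false := he rfl
  let ψ : ZMod 3 ≃+* F := ZMod.ringEquivOfPrime F Nat.prime_three h3
  obtain rfl : σ = RingEquiv.refl F := RingEquiv.ext fun a => by
    obtain ⟨c, rfl⟩ := ψ.surjective a
    exact RingHom.congr_fun (Subsingleton.elim (σ.toRingHom.comp ψ.toRingHom) ψ.toRingHom) c
  rw [CfsgLib.Known.AutPSL.mkAut_false, ← CfsgLib.Known.AutPSL.innDiag_apply, ← map_mul,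
    CfsgLib.Known.AutPSL.innDiag_apply, ← CfsgLib.Known.AutPSL.mkAut_false,
    CfsgLib.Known.AutPSL.mem_inn_iff le_rfl _ _ _ (fun _ => rfl)]
  exact ⟨rfl, rfl, Matrix.GeneralLinearGroup.det g, by rw [map_mul, pow_two]⟩

end SL

end CfsgLib.GW.Deps.QuatTools
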